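import Cfsg.Agent.H535.K4.ONCert
import Cfsg.Agent.H210.On7.Main

/-!
# The characters of degree 58653 and 116963 of the O'Nan group (helper535)

* `Sys.exists_sys` : the columns;
* `exists_deg`, `num_le` : there is exactly one character of degree 58653 and exactly one of degree 116963.
-/

set_option autoImplicit false
set_option linter.unusedSectionVars false

open Cfsg Subgroup
open scoped ComplexConjugate

namespace Cfsg.Agent.H535.K4.ON

open Cfsg.Agent.Characters.Core
open Cfsg.Agent.H653.Sieve (IsCol deg deg_cast csum csum_eq_erase one_of_deg)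
open Cfsg.Agent.H653.Sys
open Cfsg.Agent.H210.On7 (Data)
open Cfsg.Agent.H894.J4Two (apply_eq_of_isConj exists_col_rat orderOf_of_card orderOf_eq_of_isConj)

universe u

variable {G : Type u} [Group G] [Finite G]

instance fact5p : Fact (Nat.Prime 5) := ⟨by norm_num⟩
instance fact11p : Fact (Nat.Prime 11) := ⟨by norm_num⟩
instance fact19p : Fact (Nat.Prime 19) := ⟨by norm_num⟩
instance fact31p : Fact (Nat.Prime 31) := ⟨by norm_num⟩

/-- an element of prime order with a known centralizer -/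
theorem exists_elt {p m : ℕ} (hp : p.Prime) (hd : p ∣ Nat.card G)
    (h : ∀ Q : Subgroup G, Nat.card Q = p → Nat.card (centralizer (Q : Set G)) = p ∧
      Nat.card (normalizer (Q : Set G)) = m) : ∃ x : G, orderOf x = p ∧ Nat.card (centralizer ({x} : Set G)) = p := by
  have hpF : Fact p.Prime := ⟨hp⟩
  obtain ⟨x, hx⟩ := exists_prime_orderOf_dvd_card' p hd
  refine ⟨x, hx, ?_⟩
  have h1 := (h (zpowers x) (by rw [Nat.card_zpowers, hx])).1
  rwa [zpowers_eq_closure, centralizer_closure] at h1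

/-- a sum over one element -/
theorem supp_one [Fintype (IrrCharacter G)] {W : IrrCharacter G → ℤ} {g : G} {n : ℕ}
    (hW : ∀ χ : IrrCharacter G, (χ : G → ℂ) g = W χ) (hg : orderOf g = n) :
    ∃ (S : Finset G) (f : G → ℂ), (∀ χ : IrrCharacter G, (W χ : ℂ) = ∑ g ∈ S, f g * (χ : G → ℂ) g) ∧
      ∀ g ∈ S, orderOf g ∈ [n] := by
  classical
  refine ⟨{g}, fun _ => 1, fun χ => ?_, fun g' hg' => ?_⟩
  · rw [Finset.sum_singleton, hW, one_mul]
  · rw [Finset.mem_singleton.1 hg', hg]
    exact List.mem_singleton.2 rfl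

/-- The columns. -/
theorem exists_pieces [IsSimpleGroup G] (hG : ¬ IsMulCommutative G) [Fintype (IrrCharacter G)] (Δ : Data G) :
    ∃ (A B C T F u : IrrCharacter G → ℤ), FamOK (fun g : G => orderOf g) (primeFam 31 wl31 62 2 true 2) [A] ∧
      FamOK (fun g : G => orderOf g) (primeFam 19 wl19 57 3 true 3) [B] ∧
      FamOK (fun g : G => orderOf g) (primeFam 11 wl11 11 0 false 1) [C] ∧
      FamOK (fun g : G => orderOf g) fam3 [T, F, u] ∧
      (∀ χ : IrrCharacter G, (χ : G → ℂ) Δ.y = F χ) ∧ ∀ χ : IrrCharacter G, [T χ, F χ, u χ] ∈ fam3.vals (deg χ) := by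
  classical
  have hN : Nat.card G = NN := Δ.card
  obtain ⟨x31, o31, c31⟩ := exists_elt (G := G) (p := 31) (by norm_num) (by rw [Δ.card]; norm_num) Δ.h31
  obtain ⟨x19, o19, c19⟩ := exists_elt (G := G) (p := 19) (by norm_num) (by rw [Δ.card]; norm_num) Δ.h19
  obtain ⟨x11, o11, c11⟩ := exists_elt (G := G) (p := 11) (by norm_num) (by rw [Δ.card]; norm_num) Δ.h11
  obtain ⟨A, hA⟩ := primeFam_ok hG hN o31 (k := 1) (by rw [c31]) 15 2 wl31 2 true num31 62 2 (by norm_num) (by norm_num)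
  obtain ⟨B, hB⟩ := primeFam_ok hG hN o19 (k := 1) (by rw [c19]) 6 3 wl19 3 true num19 57 3 (by norm_num) (by norm_num)
  obtain ⟨C, hC⟩ := primeFam_ok hG hN o11 (k := 1) (by rw [c11]) 10 1 wl11 0 false num11 11 1 (by norm_num) (by norm_num)
  have hz : ∀ w ∈ zpowers Δ.z, w ≠ 1 → IsConj w Δ.z := fun w hw h1 =>
    Δ.c3 w (orderOf_of_card Nat.prime_three (by rw [Nat.card_zpowers, Δ.oz]) hw h1)
  obtain ⟨T, cT, vT, qT⟩ := exists_col_rat Nat.prime_three Δ.oz hz
  obtain ⟨F, cF, vF, qF⟩ := exists_col_rat Nat.prime_five Δ.oy Δ.hy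
  have dF : ∀ χ : IrrCharacter G, (5 : ℤ) ∣ (deg χ : ℤ) + 4 * F χ := fun χ => by
    have h := cF.dvd χ
    rw [Nat.card_zpowers, Δ.oy] at h
    exact_mod_cast h
  obtain ⟨u, v, hu, -, -, -, d5, d9, qu, -, -⟩ := Δ.exists_uv vT vF dF
  -- the pairs for the prime 5
  obtain ⟨P, W, hP, -, hcol, hok⟩ := H653.Sieve.exists_col hG hN Δ.oy (k := 36) (by rw [Δ.cy]) 4 1 wl5 0 false num5
  have hWF : ∀ χ : IrrCharacter G, W χ = F χ := by
    intro χ
    have hpg : IsPGroup 5 (zpowers Δ.y) := IsPGroup.of_card (n := 1) (by rw [Nat.card_zpowers, Δ.oy, pow_one])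
    obtain ⟨Q, hQ⟩ := hpg.exists_le_sylow
    have hQc : Nat.card Q = 5 := (Nat.card_congr (Q.equiv P).toEquiv).trans hP
    have hQy : (Q : Subgroup G) = zpowers Δ.y := by
      symm
      apply Subgroup.eq_of_le_of_card_ge hQ
      rw [Nat.card_zpowers, Δ.oy]
      exact hQc.le
    obtain ⟨g, hg⟩ := MulAction.exists_smul_eq G P Q
    have hconj : ∀ w ∈ (P : Subgroup G), w ≠ 1 → IsConj w Δ.y := by
      intro w hw h1
      have h2 : g * w * g⁻¹ ∈ zpowers Δ.y := by
        rw [← hQy, ← hg]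
        rw [Sylow.coe_subgroup_smul]
        exact Subgroup.smul_mem_pointwise_smul w (MulAut.conj g) (P : Subgroup G) hw
      have h3 := Δ.hy _ h2 (fun h => h1 (by
        have h4 : g * w = g := mul_inv_eq_one.1 h
        exact mul_eq_left.1 h4))
      exact (isConj_iff.2 ⟨g, rfl⟩).trans h3
    have h1 := hcol χ
    have := Fintype.ofFinite (P : Subgroup G)
    rw [csum_eq_erase, Finset.sum_congr rfl (g := fun _ => (F χ : ℂ)), Finset.sum_const,
      Finset.card_erase_of_mem (Finset.mem_univ _), Finset.card_univ, ← Nat.card_eq_fintype_card,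
      show Nat.card (P : Subgroup G) = 5 from hP] at h1
    · simp only [nsmul_eq_mul] at h1
      have h2 : ((4 * W χ : ℤ) : ℂ) = ((4 * F χ : ℤ) : ℂ) := by
        push_cast
        push_cast at h1
        linear_combination h1
      have h3 : 4 * W χ = 4 * F χ := by exact_mod_cast h2
      omega
    · intro b hb
      rw [← vF]
      exact apply_eq_of_isConj χ.2 (hconj b b.2 fun e => (Finset.mem_erase.1 hb).1 (Subtype.ext e))
  have hmF : ∀ χ : IrrCharacter G, (deg χ % 5, F χ) ∈ wl5 := by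
    intro χ
    have h1 := hok.mem χ
    rwa [hWF χ] at h1
  have hmem : ∀ χ : IrrCharacter G, [T χ, F χ, u χ] ∈ fam3.vals (deg χ) := by
    intro χ
    obtain ⟨m, hm⟩ : ∃ m : ℕ, (deg χ : ℤ) + 80 * T χ = 81 * m := by
      have := Fintype.ofFinite Δ.E
      obtain ⟨m, hm⟩ := SmallSimple.TheoremBCor.exists_sum_eq (isIrr_isCharacter χ.2) Δ.E
      rw [← Finset.add_sum_erase _ _ (Finset.mem_univ (1 : Δ.E)), Subgroup.coe_one, deg_cast,
        Finset.sum_congr rfl (g := fun _ => (T χ : ℂ)), Finset.sum_const,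
        Finset.card_erase_of_mem (Finset.mem_univ _), Finset.card_univ, ← Nat.card_eq_fintype_card, Δ.cardE] at hm
      · refine ⟨m, ?_⟩
        have h6 : (((deg χ : ℤ) + 80 * T χ : ℤ) : ℂ) = ((81 * m : ℤ) : ℂ) := by
          push_cast
          simp only [nsmul_eq_mul] at hm
          push_cast at hm
          linear_combination hm
        exact_mod_cast h6
      · intro b hb
        rw [← vT]
        exact apply_eq_of_isConj χ.2 (Δ.c3 b (Δ.expE b b.2 fun e => (Finset.mem_erase.1 hb).1 (Subtype.ext e)))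
    have hTs : T χ * T χ ≤ 3240 := by
      have h1 := Finset.single_le_sum (f := fun χ : IrrCharacter G => T χ * T χ) (fun χ _ => mul_self_nonneg _)
        (Finset.mem_univ χ)
      have h2 : ∑ χ : IrrCharacter G, T χ * T χ = 3240 := by rw [qT, Δ.cz]; norm_num
      rw [h2] at h1
      exact h1
    have hus : u χ * u χ ≤ 90 := by
      have h1 := Finset.single_le_sum (f := fun χ : IrrCharacter G => u χ * u χ) (fun χ _ => mul_self_nonneg _)
        (Finset.mem_univ χ)
      rw [qu] at h1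
      exact h1
    exact mem_fam3 hTs hus (hmF χ) (by rw [hm]; positivity) ⟨m, hm⟩ (d5 χ) (d9 χ)
  have ox2 : orderOf (Δ.x ^ 2) = 15 := by
    rw [orderOf_pow' _ (by norm_num), Δ.ox]
    norm_num
  have hx2 : Δ.x ≠ Δ.x ^ 2 := by
    intro h
    have h1 : Δ.x = 1 := by
      have h2 : Δ.x * Δ.x = Δ.x := by rw [← pow_two]; exact h.symm
      exact mul_eq_left.1 h2
    have h2 := Δ.ox
    rw [h1, orderOf_one] at h2
    norm_num at h2
  have h3 : FamOK (fun g : G => orderOf g) fam3 [T, F, u] := by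
    refine ⟨.cons ⟨supp_one vT Δ.oz, ?_, fun h => by simp at h, fun χ hχ => ?_⟩
      (.cons ⟨supp_one vF Δ.oy, ?_, fun h => by simp at h, fun χ hχ => ?_⟩
        (.cons ⟨?_, qu, fun h => by simp at h, fun χ hχ => ?_⟩ .nil)), hmem⟩
    · rw [qT, Δ.cz]; norm_num
    · have h1 := vT χ
      rw [hχ, Pi.one_apply] at h1
      exact_mod_cast h1.symm
    · rw [qF, Δ.cy]; norm_num
    · have h1 := vF χ
      rw [hχ, Pi.one_apply] at h1
      exact_mod_cast h1.symm
    · refine ⟨{Δ.x, Δ.x ^ 2}, fun _ => 1, fun χ => ?_, fun g hg => ?_⟩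
      · rw [Finset.sum_pair hx2, one_mul, one_mul, hu]
      · rcases Finset.mem_insert.1 hg with h | h
        · rw [h, Δ.ox]; exact List.mem_singleton.2 rfl
        · rw [Finset.mem_singleton.1 h, ox2]; exact List.mem_singleton.2 rfl
    · have h1 := hu χ
      rw [hχ, Pi.one_apply, Pi.one_apply] at h1
      have h2 : ((u χ : ℤ) : ℂ) = ((2 : ℤ) : ℂ) := by rw [← h1]; push_cast; norm_num
      exact_mod_cast h2
  exact ⟨A, B, C, T, F, u, hA, hB, hC, h3, vF, hmem⟩

/-- The system. -/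
theorem exists_sys [IsSimpleGroup G] (hG : ¬ IsMulCommutative G) [Fintype (IrrCharacter G)] (Δ : Data G) :
    ∃ (A B C T F u : IrrCharacter G → ℤ), SysOK (fun g : G => orderOf g) Fs [A, B, C, T, F, u] ∧
      (∀ χ : IrrCharacter G, (χ : G → ℂ) Δ.y = F χ) ∧ ∀ χ : IrrCharacter G, [T χ, F χ, u χ] ∈ fam3.vals (deg χ) := by
  obtain ⟨A, B, C, T, F, u, hA, hB, hC, h3, vF, hmem⟩ := exists_pieces hG Δ
  exact ⟨A, B, C, T, F, u, .cons hA (.cons hB (.cons hC (.cons h3 .nil))), vF, hmem⟩

theorem isConj_order {g h : G} (hc : IsConj g h) : orderOf g = orderOf h := orderOf_eq_of_isConj hc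

/-- a certificate for the existence of a character of degree `d` -/
theorem exists_deg [IsSimpleGroup G] (hG : ¬ IsMulCommutative G) (Δ : Data G) (d : ℕ) (a : ℤ)
    (cs : List H653.Sieve.Cf) (hc : certOK NN a cs [] Fs = true)
    (hall : H653.Sieve.allDiv NN (okD NN a cs [] Fs (fun x => Nat.beq x d)) facs 1 = true) :
    ∃ χ : IrrCharacter G, (χ : G → ℂ) ≠ 1 ∧ charDegree (χ : G → ℂ) = d := by
  have := finite_irr (G := G)
  have := Fintype.ofFinite (IrrCharacter G)
  obtain ⟨A, B, C, T, F, u, hs, -, -⟩ := exists_sys hG Δ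
  have hnp : ¬ (Nat.card G).Prime := by
    rw [Δ.card]
    exact fun h => absurd (h.eq_one_or_self_of_dvd 2 (by norm_num)) (by norm_num)
  obtain ⟨χ, h1, h2⟩ := exists_of_cert (lab := fun g : G => orderOf g) (fun g h hc => isConj_order hc) orderOf_one NN
    Δ.card facs facs_prime facs_prod (fun χ h => one_of_deg hnp χ h) hs [] (by simp) a cs _ hc hall
  exact ⟨χ, h1, Nat.eq_of_beq_eq_true h2⟩

/-- a certificate for the uniqueness of a character of degree `d` -/
theorem uniq_deg [IsSimpleGroup G] (hG : ¬ IsMulCommutative G) (Δ : Data G) (d : ℕ) (a m : ℤ) (hm : m ≤ 0)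
    (cs : List H653.Sieve.Cf) (hc : certOK NN a cs [⟨fun x => Nat.beq x d, m, m * 2⟩] Fs = true)
    (hall : H653.Sieve.allDiv NN (okD NN a cs [⟨fun x => Nat.beq x d, m, m * 2⟩] Fs (fun _ => false)) facs 1 = true)
    {χ ψ : IrrCharacter G} (h1 : charDegree (χ : G → ℂ) = d) (h2 : charDegree (ψ : G → ℂ) = d) : χ = ψ := by
  classical
  by_contra hne
  have := finite_irr (G := G)
  have := Fintype.ofFinite (IrrCharacter G)
  obtain ⟨A, B, C, T, F, u, hs, -, -⟩ := exists_sys hG Δ
  have hnp : ¬ (Nat.card G).Prime := by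
    rw [Δ.card]
    exact fun h => absurd (h.eq_one_or_self_of_dvd 2 (by norm_num)) (by norm_num)
  have hnum : 2 ≤ num G (fun x => Nat.beq x d) := by
    have h3 : ∑ θ ∈ ({χ, ψ} : Finset (IrrCharacter G)), (bif Nat.beq (deg θ) d then (1 : ℤ) else 0) ≤
        num G (fun x => Nat.beq x d) :=
      Finset.sum_le_sum_of_subset_of_nonneg (Finset.subset_univ _) fun θ _ _ => by
        cases Nat.beq (deg θ) d <;> simp
    rw [Finset.sum_pair hne] at h3
    have h4 : Nat.beq (deg χ) d = true := by rw [Nat.beq_eq]; exact h1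
    have h5 : Nat.beq (deg ψ) d = true := by rw [Nat.beq_eq]; exact h2
    rw [h4, h5] at h3
    exact h3
  obtain ⟨χ, -, h2⟩ := exists_of_cert (lab := fun g : G => orderOf g) (fun g h hc => isConj_order hc) orderOf_one NN
    Δ.card facs facs_prime facs_prod (fun χ h => one_of_deg hnp χ h) hs _ (by
      intro e he
      rw [List.mem_singleton] at he
      rw [he]
      exact Ex.of_ge hnum hm) a cs _ hc hall
  exact Bool.false_ne_true h2

/-- the value at the elements of order 5 -/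
theorem exists_val [IsSimpleGroup G] (hG : ¬ IsMulCommutative G) (Δ : Data G) (d : ℕ)
    (hev : ((fam3.vals d).all fun l => Nat.beq ((l.getD 1 0).natAbs % 2) 0) = true) {χ : G → ℂ}
    (hχ : IsIrrCharacter G χ) (hd : charDegree χ = d) : ∃ n : ℤ, Even n ∧ χ Δ.y = n := by
  have := finite_irr (G := G)
  have := Fintype.ofFinite (IrrCharacter G)
  obtain ⟨A, B, C, T, F, u, hs, hF, hmem⟩ := exists_sys hG Δ
  refine ⟨F ⟨χ, hχ⟩, ?_, hF ⟨χ, hχ⟩⟩
  have h1 := hmem ⟨χ, hχ⟩
  have h2 : deg (⟨χ, hχ⟩ : IrrCharacter G) = d := hd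
  rw [h2] at h1
  have h3 := List.all_eq_true.1 hev _ h1
  rw [Nat.beq_eq] at h3
  rw [← Int.natAbs_even, Nat.even_iff]
  exact h3

end Cfsg.Agent.H535.K4.ON
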