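import Cfsg.Agent.H175.Eight.J1
import Cfsg.Agent.H161.RowReeJ1
import Cfsg.Agent.H329.K4.SigCol
import Cfsg.Agent.H989.TwoCSpor
import Cfsg.Agent.H714.K4.Defs
import Cfsg.Agent.H740.K4.Equiv

/-!
# Row J₁ of S4947, S4547 (helper535)

`J₁` has three irreducible characters of degree 77 and three of degree 133; all the characters of odd degree are in
the principal 2-block and all the characters are fixed by the cubing automorphism, because the 2-elements are
involutions.

* `good5_j1`, `rowA_j1`.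
-/

set_option autoImplicit false

namespace Cfsg.Agent.H535.K4.J1

open Cfsg Subgroup
open Cfsg.Agent.Characters.Core
open Cfsg.Agent.M23Order.Base
open Cfsg.Agent.H413.JOneSpec
open Cfsg.Agent.SporRec.J1.Defs
open Cfsg.Agent.H417 Cfsg.Agent.H417.JOneDeg
open Cfsg.Agent.H175.Eight (arith_j1)
open Cfsg.Agent.H601.K4

universe u

variable {K : Type u} [Group K]

set_option maxHeartbeats 1000000 in
/-- there are three characters of degree 77 and three characters of degree 133 -/
theorem cnt_j1 [Finite K] [IsSimpleGroup K] [Fintype (IrrCharacter K)] (h : Local K) (hc : Nat.card K = 175560) :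
    cnt (fun χ : IrrCharacter K => dg χ) 77 = 3 ∧ cnt (fun χ : IrrCharacter K => dg χ) 133 = 3 := by
  classical
  have f7 : Fact (Nat.Prime 7) := ⟨by norm_num⟩
  have f11 : Fact (Nat.Prime 11) := ⟨by norm_num⟩
  have f19 : Fact (Nat.Prime 19) := ⟨by norm_num⟩
  obtain ⟨P, hP, ⟨D⟩⟩ := BlockCount.exists_SC (G := K) 7 (by norm_num) (by rw [hc]; norm_num)
    (by rw [hc]; norm_num) (fun y hy => by rw [card_cent h hc (by rw [hy]; unfold Big; tauto), hy]) (e := 6) (t := 1)
    (by rw [hc]) (by norm_num)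
  obtain ⟨Q, hQ, ⟨E⟩⟩ := BlockCount.exists_SC (G := K) 11 (by norm_num) (by rw [hc]; norm_num)
    (by rw [hc]; norm_num) (fun y hy => by rw [card_cent h hc (by rw [hy]; unfold Big; tauto), hy]) (e := 10) (t := 1)
    (by rw [hc]) (by norm_num)
  obtain ⟨R, hR, ⟨F⟩⟩ := BlockCount.exists_SC (G := K) 19 (by norm_num) (by rw [hc]; norm_num)
    (by rw [hc]; norm_num) (fun y hy => by rw [card_cent h hc (by rw [hy]; unfold Big; tauto), hy]) (e := 6) (t := 3)
    (by rw [hc]) (by norm_num)
  have hperf : commutator K = ⊤ := MTwelve.SmallDegree.commutator_eq_top_of_card (by rw [hc]; norm_num)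
  have hmem : ∀ χ : IrrCharacter K, dg χ ∈ ({1, 56, 76, 77, 120, 132, 133, 209} : Finset ℕ) := by
    intro χ
    have h1 := Divs.all_divs _ primes_ok (N := 175560) rfl deg_list (d := dg χ) (by rw [← hc]; exact dg_dvd χ)
    have h2 := BlockCount.mod_cases D (by norm_num) (by norm_num) (by norm_num) χ
    have h3 := BlockCount.mod_cases E (by norm_num) (by norm_num) (by norm_num) χ
    have h4 := BlockCount.mod_cases F (by norm_num) (by norm_num) (by norm_num) χ
    have h5 := ne_210 h hc χ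
    have h6 : dg χ ^ 2 ≤ 175560 := by
      have h7 := sum_dg_sq_le {χ}
      rw [Finset.sum_singleton, hc] at h7
      exact h7
    simp only [Finset.mem_insert, Finset.mem_singleton]
    simp only [Bool.or_eq_true, decide_eq_true_eq, Bool.not_eq_true', beq_iff_eq, Bool.or_eq_false_iff,
      beq_eq_false_iff_ne] at h1
    omega
  have h1 : cnt (fun χ : IrrCharacter K => dg χ) 1 = 1 := by
    rw [cnt, Finset.card_eq_one]
    refine ⟨⟨1, isIrr_one⟩, ?_⟩
    ext χ
    rw [Finset.mem_filter, Finset.mem_singleton]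
    constructor
    · rintro ⟨-, h1⟩
      exact Subtype.ext (coe_eq_one_of_dg hperf h1)
    · rintro rfl
      exact ⟨Finset.mem_univ _, dg_of_eq (by simp)⟩
  have hsum := sum_eq (fun χ : IrrCharacter K => dg χ) _ hmem (fun d => d ^ 2)
  rw [sum_dg_sq, hc] at hsum
  have e7 := BlockCount.card_ne_zero D (by norm_num) (by norm_num) (by norm_num)
  have e11 := BlockCount.card_ne_zero E (by norm_num) (by norm_num) (by norm_num)
  have e19 := BlockCount.card_ne_zero F (by norm_num) (by norm_num) (by norm_num)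
  have x19 := BlockCount.card_exc F (by norm_num) (by norm_num) (by norm_num)
  rw [card_filter_eq (fun χ : IrrCharacter K => dg χ) _ hmem (fun d => d % 7 ≠ 0)] at e7
  rw [card_filter_eq (fun χ : IrrCharacter K => dg χ) _ hmem (fun d => d % 11 ≠ 0)] at e11
  rw [card_filter_eq (fun χ : IrrCharacter K => dg χ) _ hmem (fun d => d % 19 ≠ 0)] at e19
  rw [card_filter_eq (fun χ : IrrCharacter K => dg χ) _ hmem (fun d => d % 19 = 6 ∨ d % 19 = 19 - 6)] at x19
  rw [show (({1, 56, 76, 77, 120, 132, 133, 209} : Finset ℕ).filter fun d => d % 7 ≠ 0) =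
    {1, 76, 120, 132, 209} by decide +kernel] at e7
  rw [show (({1, 56, 76, 77, 120, 132, 133, 209} : Finset ℕ).filter fun d => d % 11 ≠ 0) =
    {1, 56, 76, 120, 133} by decide +kernel] at e11
  rw [show (({1, 56, 76, 77, 120, 132, 133, 209} : Finset ℕ).filter fun d => d % 19 ≠ 0) =
    {1, 56, 77, 120, 132} by decide +kernel] at e19
  rw [show (({1, 56, 76, 77, 120, 132, 133, 209} : Finset ℕ).filter fun d => d % 19 = 6 ∨ d % 19 = 19 - 6) =
    {120} by decide +kernel] at x19
  repeat rw [Finset.sum_insert (by decide)] at hsum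
  repeat rw [Finset.sum_insert (by decide)] at e7
  repeat rw [Finset.sum_insert (by decide)] at e11
  repeat rw [Finset.sum_insert (by decide)] at e19
  rw [Finset.sum_singleton] at hsum e7 e11 e19 x19
  rw [h1] at hsum e7 e11 e19
  generalize h56 : cnt (fun χ : IrrCharacter K => dg χ) 56 = a56 at hsum e7 e11 e19 x19
  generalize h76 : cnt (fun χ : IrrCharacter K => dg χ) 76 = a76 at hsum e7 e11 e19 x19
  generalize h77 : cnt (fun χ : IrrCharacter K => dg χ) 77 = a77 at hsum e7 e11 e19 x19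
  generalize h120 : cnt (fun χ : IrrCharacter K => dg χ) 120 = a120 at hsum e7 e11 e19 x19
  generalize h132 : cnt (fun χ : IrrCharacter K => dg χ) 132 = a132 at hsum e7 e11 e19 x19
  generalize h133 : cnt (fun χ : IrrCharacter K => dg χ) 133 = a133 at hsum e7 e11 e19 x19
  generalize h209 : cnt (fun χ : IrrCharacter K => dg χ) 209 = a209 at hsum e7 e11 e19 x19
  obtain ⟨s56, s76, s77, s132, s133, s209⟩ := arith_j1 (a56 := a56) (a76 := a76) (a77 := a77)
    (a120 := a120) (a132 := a132) (a133 := a133) (a209 := a209) (by omega) (by omega) (by omega)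
    (by omega) (by omega)
  exact ⟨s77, s133⟩

/-- the squares of the 2-elements are trivial -/
theorem sq_of_pow {g : Spor.J1} {j : ℕ} (h : orderOf g = 2 ^ j) : g * g = 1 := by
  have hfin : Finite Spor.J1 := Nat.finite_of_card_ne_zero (by rw [H413.JOneLocal.card_J1]; norm_num)
  have fact2 : Fact (Nat.Prime 2) := ⟨Nat.prime_two⟩
  have h1 : IsPGroup 2 (zpowers g) := IsPGroup.of_card (n := j) (by rw [Nat.card_zpowers, h])
  obtain ⟨T, hT⟩ := h1.exists_le_sylow
  exact H161.RowReeJ1.j1_sq T g (hT (mem_zpowers g))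

theorem sigFix (χ : Spor.J1 → ℂ) : SigFix χ := by
  have hfin : Finite Spor.J1 := Nat.finite_of_card_ne_zero (by rw [H413.JOneLocal.card_J1]; norm_num)
  intro k h2 h3 g
  obtain ⟨x, y, rfl, hxy, ⟨j, hx⟩, hy⟩ := H618.Sigma.exists_decomp g
  have h4 : x ^ 3 = x := by rw [pow_succ, pow_two, sq_of_pow hx, one_mul]
  rw [hxy.mul_pow, h2 x ⟨j, hx⟩, h3 y hy, h4]

theorem good5_model : Good5 Spor.J1 := by
  classical
  have : IsSimpleGroup Spor.J1 := SporadicB.J1.Main.isJ1.1
  have hfin : Finite Spor.J1 := Nat.finite_of_card_ne_zero (by rw [H413.JOneLocal.card_J1]; norm_num)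
  have hfi := finite_irr (G := Spor.J1)
  let _ := Fintype.ofFinite (IrrCharacter Spor.J1)
  have hJ : Spor.IsoJ1 Spor.J1 := ⟨MulEquiv.refl _⟩
  have hC : H601.OddDeg.TwoC Spor.J1 := H989.TwoCSpor.twoC_spor
    (Or.inr (Or.inr (Or.inr (Or.inr (Or.inr (Or.inl hJ))))))
  obtain ⟨h1, h2⟩ := cnt_j1 H413.JOneLocal.isLocal H413.JOneLocal.card_J1
  let s : Finset (IrrCharacter Spor.J1) := Finset.univ.filter fun χ => dg χ = 77 ∨ dg χ = 133
  have hs : s.card = 6 := by
    have h3 : s = (Finset.univ.filter fun χ => dg χ = 77) ∪ (Finset.univ.filter fun χ => dg χ = 133) := by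
      ext χ
      simp [s]
    rw [h3, Finset.card_union_of_disjoint, ← cnt, ← cnt, h1, h2]
    rw [Finset.disjoint_filter]
    intro χ _ h4 h5
    omega
  refine H329.K4.good5_of_finset (s.image fun χ : IrrCharacter Spor.J1 => (χ : Spor.J1 → ℂ)) ?_ ?_
  · intro χ hχ
    obtain ⟨ψ, hψ, rfl⟩ := Finset.mem_image.1 hχ
    have h3 := (Finset.mem_filter.1 hψ).2
    refine H329.K4.good_of hC ⟨ψ.2, ?_⟩ (sigFix _)
    show ¬ 2 ∣ dg ψ
    omega
  · rw [Finset.card_image_of_injective _ Subtype.val_injective, hs]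
    norm_num

/-- **`J₁`, row (A) of S4547** -/
theorem good5_j1 {S : Type u} [Group S] (h : Spor.IsoJ1 S) : Good5 S := by
  have hfin : Finite Spor.J1 := Nat.finite_of_card_ne_zero (by rw [H413.JOneLocal.card_J1]; norm_num)
  obtain ⟨e⟩ := h
  have : Finite S := Finite.of_equiv _ e.symm.toEquiv
  exact H740.K4.good5_of_equiv e good5_model

theorem five_le {S : Type u} [Group S] (h : Spor.IsoJ1 S) : 5 ≤ H714.K4.k0 S := by
  have hfin : Finite Spor.J1 := Nat.finite_of_card_ne_zero (by rw [H413.JOneLocal.card_J1]; norm_num)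
  obtain ⟨χ, hinj, hχ⟩ := (good5_j1 h).odd5
  obtain ⟨e⟩ := h
  have : Finite S := Finite.of_equiv _ e.symm.toEquiv
  classical
  have hs : 5 ≤ (Finset.univ.image χ).card := by
    rw [Finset.card_image_of_injective _ hinj, Finset.card_univ, Fintype.card_fin]
  rw [H714.K4.k0_eq]
  refine hs.trans ?_
  rw [← Set.ncard_coe_finset]
  refine Set.ncard_le_ncard (fun ψ hψ => ?_) (H714.K4.odd_finite S)
  rw [Finset.mem_coe, Finset.mem_image] at hψ
  obtain ⟨i, -, rfl⟩ := hψ
  exact hχ i

/-- **`J₁`, row (A) of S4947** -/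
theorem rowA_j1 {S : Type u} [Group S] (h : Spor.IsoJ1 S) : H714.K4.RowA S := Or.inr (five_le h)

end Cfsg.Agent.H535.K4.J1
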