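import Cfsg.Agent.H535.K4.ONFam
import Cfsg.Agent.H210.On7.Loc
import Cfsg.Agent.H710.R4.CharON
import Cfsg.Agent.H692.RealOver
import Cfsg.Agent.H921.K4.Uniq
import Cfsg.Agent.H329.K4.SigCol
import Cfsg.Agent.H740.K4.Equiv
import Cfsg.Agent.H989.TwoCSpor
import Cfsg.Agent.H714.K4.Defs

/-!
# Row O'N of S4947, S4547 (helper535)

The characters of degree 1, 32395 (a rational one), 58653 and 116963 (determined by their degrees) are good; the sum
of their values at an element of order 5 is odd. Hence there is a fifth good character.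

* `good5_on`, `rowA_on`.
-/

set_option autoImplicit false

namespace Cfsg.Agent.H535.K4.ON

open Cfsg Subgroup
open Cfsg.Agent.Characters.Core
open Cfsg.Agent.H601.K4
open Cfsg.Agent.H921.K4 (Uniq)

universe u

theorem uniq_of {χ : IrrCharacter Spor.ON} {d : ℕ} (hd : charDegree (χ : Spor.ON → ℂ) = d) (h2 : ¬ 2 ∣ d)
    (hu : ∀ ψ : IrrCharacter Spor.ON, charDegree (ψ : Spor.ON → ℂ) = d → ψ = χ) : Uniq (χ : Spor.ON → ℂ) where
  irr := χ.2
  odd := by rw [hd]; exact h2
  uniq := by
    intro ψ hψ h1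
    have h3 := Cfsg.Agent.Blocks.Basic.irr_one_eq_charDegree hψ
    have h4 := Cfsg.Agent.Blocks.Basic.irr_one_eq_charDegree χ.2
    rw [h3, h4] at h1
    have h5 : charDegree ψ = charDegree (χ : Spor.ON → ℂ) := by exact_mod_cast h1
    exact congrArg Subtype.val (hu ⟨ψ, hψ⟩ (h5.trans hd))

theorem good5_model : Good5 Spor.ON := by
  classical
  have hfin : Finite Spor.ON := KFacts.ON.Cent.finite_ON
  have hs : IsSimpleGroup Spor.ON := KFacts.ON.Cent.hON.1
  have hcard : Nat.card Spor.ON = 460815505920 := H210.On7.exists_data.some.card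
  have hna : ¬ IsMulCommutative Spor.ON := by
    intro h
    have h1 := H210.On7.px1
    rw [h.is_comm.comm H210.On7.p0 H210.On7.x1, mul_inv_cancel_right] at h1
    have h3 := H210.On7.px2
    rw [h.is_comm.comm H210.On7.p0 H210.On7.x2, mul_inv_cancel_right, ← h1] at h3
    have h4 : H210.On7.x1 ^ 2 = 1 := by rw [pow_two]; nth_rewrite 1 [h3]; exact inv_mul_cancel _
    exact H210.On7.x1_ne (R04.ThreeAbs.eq_one_of_sq_cube h4 H210.On7.x1_pow)
  obtain ⟨Δ⟩ := H210.On7.exists_data
  have hON : Spor.IsoON Spor.ON := ⟨MulEquiv.refl _⟩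
  have hC : H601.OddDeg.TwoC Spor.ON := H989.TwoCSpor.twoC_spor (by
    unfold IsSporadicGroup
    exact Or.inr (Or.inr (Or.inr (Or.inr (Or.inr (Or.inr (Or.inr (Or.inr (Or.inr (Or.inr (Or.inr (Or.inr (Or.inr
      (Or.inr (Or.inr (Or.inr (Or.inr (Or.inl hON))))))))))))))))))
  -- the characters
  obtain ⟨a, ha, hrat, ha1⟩ := H710.R4.irr_ON
  have had : charDegree a = 32395 := Cfsg.Agent.Blocks.Basic.charDegree_of_eq ha1
  obtain ⟨b, -, hb⟩ := exists_deg hna Δ 58653 a_f58653 cs_f58653 cert_f58653 all_f58653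
  obtain ⟨c, -, hc⟩ := exists_deg hna Δ 116963 a_f116963 cs_f116963 cert_f116963 all_f116963
  have ub : Uniq (b : Spor.ON → ℂ) := uniq_of hb (by norm_num) fun ψ hψ =>
    uniq_deg hna Δ 58653 a_u58653 m_u58653 (by norm_num [m_u58653]) cs_u58653 cert_u58653 all_u58653 hψ hb
  have uc : Uniq (c : Spor.ON → ℂ) := uniq_of hc (by norm_num) fun ψ hψ =>
    uniq_deg hna Δ 116963 a_u116963 m_u116963 (by norm_num [m_u116963]) cs_u116963 cert_u116963 all_u116963 hψ hc
  have ga : Good a := H329.K4.good_of_rat hC ⟨ha, by rw [had]; norm_num⟩ hrat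
  have g1 : Good (fun _ : Spor.ON => (1 : ℂ)) := H329.K4.good_one hC
  have d1 : charDegree (fun _ : Spor.ON => (1 : ℂ)) = 1 := by
    apply Cfsg.Agent.Blocks.Basic.charDegree_of_eq
    simp
  -- the values at the element of order 5
  obtain ⟨n, hn, hbn⟩ := exists_val hna Δ 58653 even_58653 b.2 hb
  obtain ⟨m, hm, hcm⟩ := exists_val hna Δ 116963 even_116963 c.2 hc
  have hay : a Δ.y = 0 := by
    refine H692.RealOver.defect_zero_vanish ha 5 Nat.prime_five ?_ (by rw [Δ.oy])
    have h2 : (Nat.card Spor.ON).factorization 5 = 1 := by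
      rw [hcard, show (460815505920 : ℕ) = 5 ^ 1 * 92163101184 by norm_num,
        Nat.factorization_mul (by norm_num) (by norm_num), Nat.Prime.factorization_pow Nat.prime_five]
      rw [Finsupp.add_apply, Finsupp.single_eq_same, Nat.factorization_eq_zero_of_not_dvd (by norm_num)]
    rw [h2, had]
    norm_num
  have key : ∀ {χ ψ : Spor.ON → ℂ}, charDegree χ ≠ charDegree ψ → χ ≠ ψ := fun h h' => h (by rw [h'])
  obtain ⟨s, hsd⟩ : ∃ s : Finset (Spor.ON → ℂ), s = {(fun _ : Spor.ON => (1 : ℂ)), a, (b : Spor.ON → ℂ),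
    (c : Spor.ON → ℂ)} := ⟨_, rfl⟩
  have n1a : (fun _ : Spor.ON => (1 : ℂ)) ≠ a := key (by rw [d1, had]; norm_num)
  have n1b : (fun _ : Spor.ON => (1 : ℂ)) ≠ (b : Spor.ON → ℂ) := key (by rw [d1, hb]; norm_num)
  have n1c : (fun _ : Spor.ON => (1 : ℂ)) ≠ (c : Spor.ON → ℂ) := key (by rw [d1, hc]; norm_num)
  have nab : a ≠ (b : Spor.ON → ℂ) := key (by rw [had, hb]; norm_num)
  have nac : a ≠ (c : Spor.ON → ℂ) := key (by rw [had, hc]; norm_num)
  have nbc : (b : Spor.ON → ℂ) ≠ (c : Spor.ON → ℂ) := key (by rw [hb, hc]; norm_num)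
  have hgood : ∀ χ ∈ s, Good χ := by
    intro χ hχ
    rw [hsd] at hχ
    simp only [Finset.mem_insert, Finset.mem_singleton] at hχ
    rcases hχ with rfl | rfl | rfl | rfl
    · exact g1
    · exact ga
    · exact ub.good
    · exact uc.good
  have hsc : s.card = 4 := by
    rw [hsd, Finset.card_insert_of_notMem, Finset.card_insert_of_notMem, Finset.card_pair nbc]
    · simp only [Finset.mem_insert, Finset.mem_singleton, not_or]
      exact ⟨nab, nac⟩
    · simp only [Finset.mem_insert, Finset.mem_singleton, not_or]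
      exact ⟨n1a, n1b, n1c⟩
  have hsum : ∑ χ ∈ s, χ Δ.y = ((1 + (n + m) : ℤ) : ℂ) := by
    rw [hsd, Finset.sum_insert, Finset.sum_insert, Finset.sum_pair nbc, hay, hbn, hcm]
    · push_cast
      ring
    · simp only [Finset.mem_insert, Finset.mem_singleton, not_or]
      exact ⟨nab, nac⟩
    · simp only [Finset.mem_insert, Finset.mem_singleton, not_or]
      exact ⟨n1a, n1b, n1c⟩
  obtain ⟨χ, hχ, hχs⟩ := H329.K4.exists_new hC (by rw [hcard]; decide) s hgood (t := Δ.y) (by rw [Δ.oy]; decide)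
    (n := 1 + (n + m)) (odd_one.add_even (hn.add hm)) hsum
  refine H329.K4.good5_of_finset (insert χ s) ?_ ?_
  · intro ψ hψ
    rcases Finset.mem_insert.1 hψ with rfl | h
    · exact hχ
    · exact hgood ψ h
  · rw [Finset.card_insert_of_notMem hχs, hsc]

/-- **`O'N`, row (A) of S4547** -/
theorem good5_on {S : Type u} [Group S] (h : Spor.IsoON S) : Good5 S := by
  have hfin : Finite Spor.ON := KFacts.ON.Cent.finite_ON
  obtain ⟨e⟩ := h
  have : Finite S := Finite.of_equiv _ e.symm.toEquiv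
  exact H740.K4.good5_of_equiv e good5_model

theorem five_le {S : Type u} [Group S] (h : Spor.IsoON S) : 5 ≤ H714.K4.k0 S := by
  have hfin : Finite Spor.ON := KFacts.ON.Cent.finite_ON
  obtain ⟨χ, hinj, hχ⟩ := (good5_on h).odd5
  obtain ⟨e⟩ := h
  have : Finite S := Finite.of_equiv _ e.symm.toEquiv
  classical
  have hs : 5 ≤ (Finset.univ.image χ).card := by
    rw [Finset.card_image_of_injective _ hinj, Finset.card_univ, Fintype.card_fin]
  rw [H714.K4.k0_eq]
  refine hs.trans ?_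
  rw [← Set.ncard_coe_finset]
  refine Set.ncard_le_ncard (fun ψ hψ => ?_) (H714.K4.odd_finite S)
  rw [Finset.mem_coe, Finset.mem_image] at hψ
  obtain ⟨i, -, rfl⟩ := hψ
  exact hχ i

/-- **`O'N`, row (A) of S4947** -/
theorem rowA_on {S : Type u} [Group S] (h : Spor.IsoON S) : H714.K4.RowA S := Or.inr (five_le h)

end Cfsg.Agent.H535.K4.ON
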