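import Cfsg.Agent.H535.K4.LyPerm
import Cfsg.Agent.H352.S4790.Kap
import Cfsg.Agent.H329.K4.SigCol
import Cfsg.Agent.H714.K4.Defs

/-!
# Groups with `C(t) = 2.A₁₁` and one class of involutions: only two characters are moved by `σ` (helper535)

* `exists_bad` : a class moved by `σ` meets `C(t)` in elements with image of cycle type `{5, 4, 2}` (order 40);
* `card_moved`, `card_moved_char` : at most two classes and at most two irreducible characters are moved;
* `good5_of` : seven irreducible characters of odd degree give five good ones.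
-/

set_option autoImplicit false

namespace Cfsg.Agent.H535.K4.Ly

open Cfsg Subgroup Equiv Cfsg.Agent.SporRec.TwoAn Cfsg.Agent.TypeM.Two Cfsg.Agent.H618.Sigma Cfsg.Agent.H352.S4790
open Cfsg.Agent.Characters.Core

universe u

variable {G : Type u} [Group G]

theorem exists_bad [Finite G] (L : MT 11 G) {k : ℕ} (hk : Cube G k) {g : G} (hg : ¬ IsConj (g ^ k) g) :
    ∃ g' : centralizer ({L.t} : Set G), IsConj g (g' : G) ∧ Bad (L.K.π g') := by
  obtain ⟨x, y, rfl, hxy, ⟨j, hj⟩, hy⟩ := exists_decomp g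
  have e1 : (x * y) ^ k = x ^ 3 * y := by
    rw [hxy.mul_pow, hk.two x ⟨j, hj⟩, hk.odd y hy]
  rw [e1] at hg
  -- the order of `x`
  have hj2 : 2 ≤ j := by
    by_contra h
    apply hg
    have h1 : x ^ 2 = 1 := by
      rw [← orderOf_dvd_iff_pow_eq_one, hj]
      have : j = 0 ∨ j = 1 := by omega
      rcases this with rfl | rfl
      · exact one_dvd _
      · exact dvd_rfl
    rw [pow_succ, h1, one_mul]
  obtain ⟨i, rfl⟩ : ∃ i, j = i + 2 := ⟨j - 2, by omega⟩
  obtain ⟨s, hs⟩ : ∃ s, s = x ^ 2 ^ (i + 1) := ⟨_, rfl⟩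
  have hss : s * s = 1 := by
    rw [hs, ← pow_add, ← two_mul, ← pow_succ', ← hj, pow_orderOf_eq_one]
  have hs1 : s ≠ 1 := by
    intro h
    rw [hs, ← orderOf_dvd_iff_pow_eq_one, hj] at h
    have h1 := (Nat.pow_dvd_pow_iff_le_right (by norm_num : 1 < 2)).1 h
    omega
  obtain ⟨c, hc⟩ := L.one s hss hs1
  obtain ⟨X, hX⟩ : ∃ X, X = c⁻¹ * x * c := ⟨_, rfl⟩
  obtain ⟨Y, hY⟩ : ∃ Y, Y = c⁻¹ * y * c := ⟨_, rfl⟩
  have hXp : ∀ m : ℕ, X ^ m = c⁻¹ * x ^ m * c := by
    intro m
    have := conj_pow (i := m) (a := c⁻¹) (b := x)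
    rw [inv_inv] at this
    rw [hX, this]
  have hXt : X ^ 2 ^ (i + 1) = L.t := by
    rw [hXp, ← hs, ← hc]
    group
  have hYn : Y ^ orderOf y = 1 := by
    have := conj_pow (i := orderOf y) (a := c⁻¹) (b := y)
    rw [inv_inv] at this
    rw [hY, this, pow_orderOf_eq_one]
    group
  have hXY : X * Y = Y * X := by
    rw [hX, hY]
    calc c⁻¹ * x * c * (c⁻¹ * y * c) = c⁻¹ * (x * y) * c := by group
      _ = c⁻¹ * (y * x) * c := by rw [hxy.eq]
      _ = _ := by group
  have hXL : X ∈ centralizer ({L.t} : Set G) := by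
    rw [mem_centralizer_singleton_iff, ← hXt]
    exact ((Commute.refl X).pow_right _).eq
  have hYL : Y ∈ centralizer ({L.t} : Set G) := by
    rw [mem_centralizer_singleton_iff, ← hXt]
    exact ((show Commute Y X from hXY.symm).pow_right _).eq
  obtain ⟨X', hX'⟩ : ∃ X' : centralizer ({L.t} : Set G), X' = ⟨X, hXL⟩ := ⟨_, rfl⟩
  obtain ⟨Y', hY'⟩ : ∃ Y' : centralizer ({L.t} : Set G), Y' = ⟨Y, hYL⟩ := ⟨_, rfl⟩
  have cX : (X' : G) = X := by rw [hX']
  have cY : (Y' : G) = Y := by rw [hY']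
  have hXY' : X' * Y' = Y' * X' := Subtype.ext (by rw [coe_mul, coe_mul, cX, cY, hXY])
  have hYn' : Y' ^ orderOf y = 1 := Subtype.ext (by rw [coe_pow, cY, hYn, coe_one])
  have hXz : X' ^ 2 ^ (i + 1) = L.K.z := Subtype.ext (by rw [coe_pow, cX, hXt, L.hz])
  -- back to `G`
  have hconj : IsConj (x * y) (X * Y) := by
    rw [isConj_iff]
    exact ⟨c⁻¹, by rw [hX, hY]; group⟩
  have hback : ¬ ∃ h : centralizer ({L.t} : Set G), h * (X' * Y') * h⁻¹ = X' ^ 3 * Y' := by
    rintro ⟨h, hh⟩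
    apply hg
    have h1 := congrArg Subtype.val hh
    rw [coe_mul, coe_mul, coe_mul, coe_mul, coe_pow, coe_inv, cX, cY] at h1
    have h2 : IsConj (X * Y) (X ^ 3 * Y) := isConj_iff.2 ⟨h, h1⟩
    have h3 : IsConj (X ^ 3 * Y) (x ^ 3 * y) := by
      rw [isConj_iff]
      refine ⟨c, ?_⟩
      rw [hXp, hY]
      group
    exact ((hconj.trans h2).trans h3).symm
  rcases i with _ | _ | i
  · exfalso
    apply hback
    exact conj_two L.K (by rw [← pow_two]; simpa using hXz) hXY' hy hYn'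
  · rcases conj_four L.K (x := X') (y := Y') (by
      rw [← hXz]
      show X' * X' * (X' * X') = X' ^ 4
      rw [pow_succ, pow_succ, pow_two]
      group) hXY' hy hYn' with h | h
    · exact absurd h hback
    · refine ⟨X' * Y', ?_, h⟩
      rw [coe_mul, cX, cY]
      exact hconj
  · exfalso
    refine no_eight L.K (w := X' ^ 2 ^ i) ?_
    rw [← hXz]
    have h1 : ∀ w : centralizer ({L.t} : Set G), w * w * (w * w) * (w * w * (w * w)) = w ^ 8 := by
      intro w
      have : w ^ 8 = w ^ (4 + 4) := rfl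
      rw [this, pow_add]
      have h4 : w ^ 4 = w * w * (w * w) := by
        rw [pow_succ, pow_succ, pow_two]
        group
      rw [h4]
    rw [h1, ← pow_mul]
    congr 1
    rw [pow_succ, pow_succ, pow_succ]
    ring

theorem card_moved [Finite G] (L : MT 11 G) {k : ℕ} (hk : Cube G k) :
    Nat.card {C : ConjClasses G // ¬ powCl k C = C} ≤ 2 := by
  classical
  have : Finite (ConjClasses G) := Quotient.finite _
  have hrep : ∀ C : ConjClasses G, ¬ powCl k C = C → ∃ g' : centralizer ({L.t} : Set G),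
      C = ConjClasses.mk (g' : G) ∧ Bad (L.K.π g') := by
    intro C hC
    obtain ⟨g, rfl⟩ := ConjClasses.mk_surjective C
    rw [powCl_mk, ConjClasses.mk_eq_mk_iff_isConj] at hC
    obtain ⟨g', h1, h2⟩ := exists_bad L hk hC
    exact ⟨g', ConjClasses.mk_eq_mk_iff_isConj.2 h1, h2⟩
  by_cases hex : ∃ C : ConjClasses G, ¬ powCl k C = C
  · obtain ⟨C₀, hC₀⟩ := hex
    obtain ⟨g₀, -, hb₀⟩ := hrep C₀ hC₀
    have hsub : {C : ConjClasses G | ¬ powCl k C = C} ⊆
        {ConjClasses.mk (g₀ : G), ConjClasses.mk ((g₀ : G) * L.t)} := by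
      intro C hC
      obtain ⟨g', rfl, hb⟩ := hrep C hC
      obtain ⟨w, hw | hw⟩ := conj_of_bad L.K hb hb₀
      · left
        rw [ConjClasses.mk_eq_mk_iff_isConj, isConj_iff]
        exact ⟨w, congrArg Subtype.val hw⟩
      · right
        rw [Set.mem_singleton_iff, ConjClasses.mk_eq_mk_iff_isConj, isConj_iff]
        refine ⟨w, ?_⟩
        have h1 := congrArg Subtype.val hw
        rw [coe_mul, coe_mul, coe_mul, coe_inv, L.hz] at h1
        exact h1
    have h1 := Set.ncard_le_ncard hsub (Set.toFinite _)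
    have h2 : ({ConjClasses.mk (g₀ : G), ConjClasses.mk ((g₀ : G) * L.t)} : Set (ConjClasses G)).ncard ≤ 2 :=
      (Set.ncard_insert_le _ _).trans (by rw [Set.ncard_singleton])
    exact h1.trans h2
  · push Not at hex
    have : IsEmpty {C : ConjClasses G // ¬ powCl k C = C} := ⟨fun C => C.2 (hex C.1)⟩
    rw [Nat.card_of_isEmpty]
    exact Nat.zero_le _

theorem card_split {α : Type*} [Finite α] (p : α → Prop) :
    Nat.card {a // p a} + Nat.card {a // ¬ p a} = Nat.card α := by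
  classical
  rw [← Nat.card_sum]
  exact Nat.card_congr (Equiv.sumCompl p)

theorem card_moved_char [Finite G] (L : MT 11 G) {k : ℕ} (hk : Cube G k) :
    Nat.card {χ : IrrCharacter G // ¬ ∀ g : G, (χ : G → ℂ) (g ^ k) = (χ : G → ℂ) g} ≤ 2 := by
  have : Finite (ConjClasses G) := Quotient.finite _
  have : Finite (IrrCharacter G) := finite_irr
  have h1 := card_split (fun χ : IrrCharacter G => ∀ g : G, (χ : G → ℂ) (g ^ k) = (χ : G → ℂ) g)
  have h2 := card_split (fun C : ConjClasses G => powCl k C = C)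
  have h3 := card_moved L hk
  have h4 := card_fixed (G := G) hk.coprime
  have h5 := card_irr (G := G)
  omega

/-- **Five good characters.** -/
theorem good5_of [Finite G] (hC : H601.OddDeg.TwoC G) (L : MT 11 G) (h7 : 7 ≤ H714.K4.k0 G) : H601.K4.Good5 G := by
  classical
  obtain ⟨k, hk⟩ := H329.K4.exists_cube G
  have : Finite (IrrCharacter G) := finite_irr
  have := Fintype.ofFinite (IrrCharacter G)
  obtain ⟨O, hO⟩ : ∃ O : Finset (IrrCharacter G), 
    O = Finset.univ.filter fun χ : IrrCharacter G => ¬ 2 ∣ charDegree (χ : G → ℂ) := ⟨_, rfl⟩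
  obtain ⟨V, hV⟩ : ∃ V : Finset (IrrCharacter G),
    V = Finset.univ.filter fun χ : IrrCharacter G => ¬ ∀ g : G, (χ : G → ℂ) (g ^ k) = (χ : G → ℂ) g := ⟨_, rfl⟩
  have hOc : 7 ≤ O.card := by
    have h1 : H714.K4.k0 G = O.card := by
      rw [hO, H714.K4.k0, Nat.card_eq_fintype_card, Fintype.card_subtype]
    rwa [← h1]
  have hVc : V.card ≤ 2 := by
    have h1 := card_moved_char L hk
    rw [Nat.card_eq_fintype_card, Fintype.card_subtype] at h1
    rw [hV]
    exact h1
  have h5 : 5 ≤ (O \ V).card := by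
    have := Finset.le_card_sdiff V O
    omega
  refine H329.K4.good5_of_finset ((O \ V).map ⟨Subtype.val, Subtype.val_injective⟩) ?_ ?_
  · intro χ hχ
    rw [Finset.mem_map] at hχ
    obtain ⟨ψ, hψ, rfl⟩ := hχ
    rw [Finset.mem_sdiff, hO, hV, Finset.mem_filter, Finset.mem_filter] at hψ
    have h1 : ∀ g : G, (ψ : G → ℂ) (g ^ k) = (ψ : G → ℂ) g := by
      by_contra h
      exact hψ.2 ⟨Finset.mem_univ _, h⟩
    exact H329.K4.good_of hC ⟨ψ.2, hψ.1.2⟩ (H329.K4.sigFix_of_cube hk h1)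
  · rw [Finset.card_map]
    exact h5

end Cfsg.Agent.H535.K4.Ly
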