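import Cfsg.Agent.H651.Two.Inv
import Cfsg.Agent.H651.Two.Data
import Cfsg.Agent.J3Type.CharTools
import Cfsg.Agent.H714.K4.Basic

/-!
# Four characters of odd degree: rationality and parity (helper535, for the row Ly of S4947)

* `even_of_deg`, `even_of_val` : the sum of the values of the characters of odd degree is even;
* `exists_ab` : if there are four characters of odd degree, two of them rational, and a Galois invariant column with
  odd sum on these two, then all four are rational;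
* `exists_elt` : the values of the rational characters at an element of prime order `p`, `p² ∤ |G|`.
-/

set_option autoImplicit false
set_option linter.unusedSectionVars false

namespace Cfsg.Agent.H535.K4.Ly

open Cfsg Subgroup Cfsg.Agent.Characters.Core
open Cfsg.Agent.H653.Sieve Cfsg.Agent.H651.Two
open scoped ComplexConjugate

universe u

variable {G : Type u} [Group G] [Finite G] [Fintype (IrrCharacter G)]

open Classical in
/-- the irreducible characters of odd degree -/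
noncomputable def oddSet (G : Type u) [Group G] [Fintype (IrrCharacter G)] : Finset (IrrCharacter G) :=
  Finset.univ.filter fun χ : IrrCharacter G => ¬ 2 ∣ deg χ

theorem mem_oddSet {χ : IrrCharacter G} : χ ∈ oddSet G ↔ ¬ 2 ∣ deg χ := by
  unfold oddSet
  rw [Finset.mem_filter]
  exact ⟨fun h => h.2, fun h => ⟨Finset.mem_univ _, h⟩⟩

theorem card_oddSet : (oddSet G).card = H714.K4.k0 G := by
  classical
  unfold oddSet
  rw [H714.K4.k0, Nat.card_eq_fintype_card, Fintype.card_subtype]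
  rfl

/-- rational values -/
def Rat (χ : G → ℂ) : Prop := ∀ g : G, ∃ q : ℚ, χ g = q

theorem Rat.int {χ : IrrCharacter G} (h : Rat (χ : G → ℂ)) (g : G) : ∃ n : ℤ, (χ : G → ℂ) g = n :=
  Characters.GaloisBasic.exists_int_of_isIntegral
    (Characters.GaloisBasic.isIntegral_apply (isIrr_isCharacter χ.2) g) (h g)

theorem even_of_deg {W : IrrCharacter G → ℤ} (h : ∑ χ : IrrCharacter G, W χ * (deg χ : ℤ) = 0) :
    (2 : ℤ) ∣ ∑ χ ∈ oddSet G, W χ := by
  classical
  have h1 : ∀ χ : IrrCharacter G, W χ * (deg χ : ℤ) = 2 * (W χ * (deg χ / 2 : ℕ)) + if ¬ 2 ∣ deg χ then W χ else 0 := by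
    intro χ
    split_ifs with h2
    · have h3 : (deg χ : ℤ) = 2 * ((deg χ / 2 : ℕ) : ℤ) := by omega
      linear_combination W χ * h3
    · have h3 : (deg χ : ℤ) = 2 * ((deg χ / 2 : ℕ) : ℤ) + 1 := by omega
      linear_combination W χ * h3
  rw [Finset.sum_congr rfl fun χ _ => h1 χ, Finset.sum_add_distrib, ← Finset.mul_sum] at h
  have h2 : ∑ χ ∈ oddSet G, W χ = ∑ χ : IrrCharacter G, if ¬ 2 ∣ deg χ then W χ else 0 := by
    unfold oddSet
    rw [Finset.sum_filter]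
  rw [h2]
  exact ⟨-∑ χ : IrrCharacter G, W χ * (deg χ / 2 : ℕ), by linarith⟩

/-- **The sum of the values of the characters of odd degree is even.** -/
theorem even_of_val {x : G} (hx : x ≠ 1) {w : IrrCharacter G → ℤ}
    (hw : ∀ χ ∈ oddSet G, (χ : G → ℂ) x = w χ) : (2 : ℤ) ∣ ∑ χ ∈ oddSet G, w χ := by
  classical
  have := Fintype.ofFinite G
  have h0 := S0145.sum_irr_mul_conj (G := G) x 1
  rw [if_neg (by rw [isConj_one_left]; exact hx)] at h0
  have h1 : ∀ χ : IrrCharacter G, (χ : G → ℂ) x * conj ((χ : G → ℂ) 1) =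
      2 * ((χ : G → ℂ) x * (deg χ / 2 : ℕ)) + if ¬ 2 ∣ deg χ then (χ : G → ℂ) x else 0 := by
    intro χ
    rw [deg_cast, Complex.conj_natCast]
    split_ifs with h2
    · have h3 : deg χ = 2 * (deg χ / 2) := by omega
      have h4 : ((deg χ : ℕ) : ℂ) = 2 * ((deg χ / 2 : ℕ) : ℂ) := by exact_mod_cast congrArg (Nat.cast (R := ℂ)) h3
      linear_combination (χ : G → ℂ) x * h4
    · have h3 : deg χ = 2 * (deg χ / 2) + 1 := by omega
      have h4 : ((deg χ : ℕ) : ℂ) = 2 * ((deg χ / 2 : ℕ) : ℂ) + 1 := by exact_mod_cast congrArg (Nat.cast (R := ℂ)) h3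
      linear_combination (χ : G → ℂ) x * h4
  rw [Finset.sum_congr rfl fun χ _ => h1 χ, Finset.sum_add_distrib, ← Finset.mul_sum] at h0
  have h2 : ((∑ χ ∈ oddSet G, w χ : ℤ) : ℂ) = ∑ χ : IrrCharacter G, if ¬ 2 ∣ deg χ then (χ : G → ℂ) x else 0 := by
    push_cast
    rw [← Finset.sum_congr rfl hw]
    unfold oddSet
    rw [Finset.sum_filter]
  have h3 : IsIntegral ℤ (-∑ χ : IrrCharacter G, (χ : G → ℂ) x * ((deg χ / 2 : ℕ) : ℂ)) := by
    refine (IsIntegral.sum _ fun χ _ => ?_).neg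
    exact (Characters.GaloisBasic.isIntegral_apply (isIrr_isCharacter χ.2) x).mul (isIntegral_algebraMap (R := ℤ) (x := ((deg χ / 2 : ℕ) : ℤ)))
  refine Cfsg.Agent.J3Type.CharTools.dvd_of_integral (by norm_num) h3 ?_
  rw [h2]
  push_cast
  linear_combination h0

theorem gperm_mem {s : ℂ ≃+* ℂ} {χ : IrrCharacter G} (h : χ ∈ oddSet G) : gperm s χ ∈ oddSet G := by
  rw [mem_oddSet] at h ⊢
  rwa [show deg (gperm s χ) = deg χ from deg_gperm s χ]

theorem gperm_of_rat {s : ℂ ≃+* ℂ} {χ : IrrCharacter G} (h : Rat (χ : G → ℂ)) : gperm s χ = χ := by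
  apply Subtype.ext
  funext g
  obtain ⟨q, hq⟩ := h g
  rw [gperm_apply, hq]
  exact map_ratCast s q

theorem rat_of_gperm {χ : IrrCharacter G} (h : ∀ s : ℂ ≃+* ℂ, gperm s χ = χ) : Rat (χ : G → ℂ) := by
  intro g
  refine Characters.GaloisBasic.exists_rat_of_forall_ringEquiv
    (Characters.GaloisBasic.isIntegral_apply (isIrr_isCharacter χ.2) g).tower_top fun s => ?_
  have h1 := congrArg (fun ψ : IrrCharacter G => (ψ : G → ℂ) g) (h s)
  exact h1

/-- **Four characters of odd degree, two of them rational.** -/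
theorem exists_ab (h4 : (oddSet G).card = 4) {χ₁ c : IrrCharacter G} (h1 : Rat (χ₁ : G → ℂ)) (hc : Rat (c : G → ℂ))
    (h1o : χ₁ ∈ oddSet G) (hco : c ∈ oddSet G) (hne : χ₁ ≠ c) {W : IrrCharacter G → ℤ}
    (hW : ∀ (s : ℂ ≃+* ℂ) χ, W (gperm s χ) = W χ) (hdeg : ∑ χ : IrrCharacter G, W χ * (deg χ : ℤ) = 0)
    (hWo : ¬ (2 : ℤ) ∣ W χ₁ + W c) :
    ∃ a b : IrrCharacter G, Rat (a : G → ℂ) ∧ Rat (b : G → ℂ) ∧ a ∈ oddSet G ∧ b ∈ oddSet G ∧ a ≠ χ₁ ∧ a ≠ c ∧
      b ≠ χ₁ ∧ b ≠ c ∧ a ≠ b ∧ (∀ χ ∈ oddSet G, Rat (χ : G → ℂ)) ∧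
      ∀ w : IrrCharacter G → ℤ, ∑ χ ∈ oddSet G, w χ = w χ₁ + w c + w a + w b := by
  classical
  have e1 : (((oddSet G).erase χ₁).erase c).card = 2 := by
    rw [Finset.card_erase_of_mem (Finset.mem_erase.2 ⟨hne.symm, hco⟩), Finset.card_erase_of_mem h1o, h4]
  obtain ⟨a, b, hab, hs⟩ := Finset.card_eq_two.1 e1
  have ha : a ∈ ((oddSet G).erase χ₁).erase c := by rw [hs]; simp
  have hb : b ∈ ((oddSet G).erase χ₁).erase c := by rw [hs]; simp
  rw [Finset.mem_erase, Finset.mem_erase] at ha hb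
  have hsum : ∀ w : IrrCharacter G → ℤ, ∑ χ ∈ oddSet G, w χ = w χ₁ + w c + w a + w b := by
    intro w
    rw [← Finset.add_sum_erase _ _ h1o, ← Finset.add_sum_erase _ _ (Finset.mem_erase.2 ⟨hne.symm, hco⟩), hs,
      Finset.sum_pair hab]
    ring
  have hpar : ¬ W a = W b := by
    intro h
    have h2 := even_of_deg hdeg
    rw [hsum, h] at h2
    apply hWo
    have h3 : W χ₁ + W c + W b + W b = (W χ₁ + W c) + 2 * W b := by ring
    rw [h3] at h2
    exact (Int.dvd_add_left (Int.dvd_mul_right 2 (W b))).1 h2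
  have hmem : ∀ {s : ℂ ≃+* ℂ} {χ : IrrCharacter G}, χ ∈ oddSet G → χ ≠ χ₁ → χ ≠ c → gperm s χ = a ∨ gperm s χ = b := by
    intro s χ h h' h''
    have h2 : gperm s χ ∈ ((oddSet G).erase χ₁).erase c := by
      rw [Finset.mem_erase, Finset.mem_erase]
      refine ⟨fun h3 => h'' ?_, fun h3 => h' ?_, gperm_mem h⟩
      · apply (gperm s).injective
        rw [h3, gperm_of_rat hc]
      · apply (gperm s).injective
        rw [h3, gperm_of_rat h1]
    rw [hs] at h2
    simpa using h2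
  have hra : Rat (a : G → ℂ) := by
    refine rat_of_gperm fun s => ?_
    rcases hmem (s := s) ha.2.2 ha.2.1 ha.1 with h | h
    · exact h
    · exfalso
      apply hpar
      rw [← hW s a, h]
  have hrb : Rat (b : G → ℂ) := by
    refine rat_of_gperm fun s => ?_
    rcases hmem (s := s) hb.2.2 hb.2.1 hb.1 with h | h
    · exfalso
      apply hpar
      rw [← hW s b, h]
    · exact h
  refine ⟨a, b, hra, hrb, ha.2.2, hb.2.2, ha.2.1, ha.1, hb.2.1, hb.1, hab, fun χ hχ => ?_, hsum⟩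
  by_cases e2 : χ = χ₁
  · rw [e2]; exact h1
  by_cases e3 : χ = c
  · rw [e3]; exact hc
  have h2 : χ ∈ ((oddSet G).erase χ₁).erase c := Finset.mem_erase.2 ⟨e3, Finset.mem_erase.2 ⟨e2, hχ⟩⟩
  rw [hs] at h2
  rcases Finset.mem_insert.1 h2 with rfl | h2
  · exact hra
  · rw [Finset.mem_singleton.1 h2]; exact hrb

/-- parity at an element -/
theorem parity_at {x : G} (hx : x ≠ 1) (hall : ∀ χ ∈ oddSet G, Rat (χ : G → ℂ)) {χ₁ c a b : IrrCharacter G}
    (h1o : χ₁ ∈ oddSet G) (hco : c ∈ oddSet G) (hao : a ∈ oddSet G) (hbo : b ∈ oddSet G)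
    (hsum : ∀ w : IrrCharacter G → ℤ, ∑ χ ∈ oddSet G, w χ = w χ₁ + w c + w a + w b) {v₁ vc va vb : ℤ}
    (h1 : (χ₁ : G → ℂ) x = v₁) (hc : (c : G → ℂ) x = vc) (ha : (a : G → ℂ) x = va) (hb : (b : G → ℂ) x = vb) :
    (2 : ℤ) ∣ v₁ + vc + va + vb := by
  classical
  let w : IrrCharacter G → ℤ := fun χ => if h : ∃ n : ℤ, (χ : G → ℂ) x = n then h.choose else 0
  have hw : ∀ χ ∈ oddSet G, (χ : G → ℂ) x = w χ := by
    intro χ hχ
    have h := (hall χ hχ).int x
    show _ = (((if h : ∃ n : ℤ, (χ : G → ℂ) x = n then h.choose else 0 : ℤ)) : ℂ)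
    rw [dif_pos h]
    exact h.choose_spec
  have key : ∀ {χ : IrrCharacter G} {v : ℤ}, χ ∈ oddSet G → (χ : G → ℂ) x = v → w χ = v := by
    intro χ v hχ hv
    have h := hw χ hχ
    rw [hv] at h
    exact_mod_cast h.symm
  have h := even_of_val hx hw
  rwa [hsum, key h1o h1, key hco hc, key hao ha, key hbo hb] at h

theorem W_gperm {P : Subgroup G} {e : ℕ} {W : IrrCharacter G → ℤ} (he : e ≠ 0) (hW : IsCol P e W) (s : ℂ ≃+* ℂ)
    (χ : IrrCharacter G) : W (gperm s χ) = W χ := by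
  have := Fintype.ofFinite P
  have h1 := hW (gperm s χ)
  have h2 := congrArg s (hW χ)
  rw [csum_eq] at h1 h2
  have h3 : ∑ x : P, (gperm s χ : G → ℂ) x - (gperm s χ : G → ℂ) 1 = s (∑ x : P, (χ : G → ℂ) x - (χ : G → ℂ) 1) := by
    rw [map_sub, map_sum]
    rfl
  rw [h3, ← h2, map_mul, map_natCast, map_intCast] at h1
  have h4 := mul_left_cancel₀ (by exact_mod_cast he : (e : ℂ) ≠ 0) h1
  exact_mod_cast h4

/-- rational characters are constant on the generators of a group of prime order -/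
theorem rat_gen {χ : IrrCharacter G} (hχ : Rat (χ : G → ℂ)) {r : ℕ} (hr : r.Prime) {x y : G} (hx : orderOf x = r)
    (hy : orderOf y = r) (hxy : y ∈ zpowers x) : (χ : G → ℂ) y = (χ : G → ℂ) x := by
  obtain ⟨k, hk'⟩ : ∃ k : ℕ, x ^ k = y :=
    (Submonoid.mem_powers_iff _ _).1 (mem_powers_iff_mem_zpowers.2 hxy)
  have hkr : k.Coprime r := by
    rw [Nat.coprime_comm, hr.coprime_iff_not_dvd]
    rintro ⟨j, rfl⟩
    rw [pow_mul, ← hx, pow_orderOf_eq_one, one_pow] at hk'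
    rw [← hk', orderOf_one] at hy
    exact hr.one_lt.ne hy
  have hrG : r ∣ Nat.card G := by rw [← hx]; exact orderOf_dvd_natCard x
  have : NeZero (Nat.card G) := ⟨Nat.card_pos.ne'⟩
  have : NeZero r := ⟨hr.ne_zero⟩
  obtain ⟨u, hu⟩ := ZMod.unitsMap_surjective hrG (ZMod.unitOfCoprime k hkr)
  have h1 : ((u : ZMod (Nat.card G)).val : ZMod r) = (k : ZMod r) := by
    have h2 := congrArg (fun v : (ZMod r)ˣ => (v : ZMod r)) hu
    simp only [ZMod.unitsMap_def, Units.coe_map, ZMod.coe_unitOfCoprime] at h2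
    rw [← h2]
    simp [ZMod.natCast_val]
  have h3 : x ^ (u : ZMod (Nat.card G)).val = x ^ k := by
    rw [pow_eq_pow_iff_modEq, hx]
    exact (ZMod.natCast_eq_natCast_iff _ _ _).1 h1
  obtain ⟨s, hs⟩ := Characters.GaloisBasic.exists_ringEquiv_of_coprime (G := G) (ZMod.val_coe_unit_coprime u)
  rw [← hk', ← h3, ← hs _ (isIrr_isCharacter χ.2) x]
  obtain ⟨q, hq⟩ := hχ x
  rw [hq]
  exact map_ratCast s q

/-- **The element of prime order and its column.** -/
theorem exists_elt [IsSimpleGroup G] (hG : ¬ IsMulCommutative G) {N : ℕ} (hN : Nat.card G = N) (d : CD) (hd : d.Has G)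
    (hok : d.ok N = true) : ∃ x : G, orderOf x = d.r ∧ ∃ W : IrrCharacter G → ℤ,
      (∀ (s : ℂ ≃+* ℂ) χ, W (gperm s χ) = W χ) ∧ ∑ χ : IrrCharacter G, W χ * (deg χ : ℤ) = 0 ∧
      (∀ χ, (deg χ % d.r, W χ) ∈ d.wl) ∧ ∀ χ : IrrCharacter G, Rat (χ : G → ℂ) → ∀ v : ℤ, (χ : G → ℂ) x = v →
        W χ = d.t * v := by
  classical
  obtain ⟨hr, x, hx, hc⟩ := hd
  have : Fact d.r.Prime := ⟨hr⟩
  have het : d.e * d.t = d.r - 1 := by
    have h4 := hok
    simp only [CD.ok, numOK, Bool.and_eq_true, beq_iff_eq] at h4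
    exact h4.1.1.1.2
  obtain ⟨P, W, hP, he, hcol, hcok⟩ := exists_col hG hN hx hc d.e d.t d.wl d.c d.b hok
  have hPf := Fintype.ofFinite (P : Subgroup G)
  have hord : ∀ y ∈ (P : Subgroup G), y ≠ 1 → orderOf y = d.r := by
    intro y hy hy1
    exact Blocks.CyclicOrtho.orderOf_eq P hP hy hy1
  obtain ⟨x', hx', hx1⟩ : ∃ x ∈ (P : Subgroup G), x ≠ 1 := by
    by_contra hcon
    push Not at hcon
    have h1 : (P : Subgroup G) = ⊥ := (Subgroup.eq_bot_iff_forall _).2 hcon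
    have h2 : Nat.card (P : Subgroup G) = d.r := hP
    rw [h1, Subgroup.card_bot] at h2
    exact hr.one_lt.ne h2
  have hxo := hord x' hx' hx1
  have hPx : (P : Subgroup G) = zpowers x' := by
    symm
    apply Subgroup.eq_of_le_of_card_ge (zpowers_le.2 hx')
    rw [Nat.card_zpowers, hxo]
    exact le_of_eq hP
  refine ⟨x', hxo, W, W_gperm he hcol, hcok.deg, hcok.mem, fun χ hχ v hv => ?_⟩
  have h1 := hcol χ
  rw [csum_eq_erase, Finset.sum_congr rfl (g := fun _ => (v : ℂ)), Finset.sum_const, nsmul_eq_mul,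
    Finset.card_erase_of_mem (Finset.mem_univ _), Finset.card_univ, ← Nat.card_eq_fintype_card,
    show Nat.card (P : Subgroup G) = d.r from hP, ← het] at h1
  · have he' : (d.e : ℂ) ≠ 0 := by exact_mod_cast he
    have h2 : (d.e : ℂ) * (W χ : ℂ) = d.e * ((d.t * v : ℤ) : ℂ) := by rw [h1]; push_cast; ring
    exact_mod_cast mul_left_cancel₀ he' h2
  · intro y hy
    rw [← hv]
    have hy1 : (y : G) ≠ 1 := fun h => (Finset.mem_erase.1 hy).1 (Subtype.ext h)
    refine rat_gen hχ hr hxo (hord _ y.2 hy1) ?_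
    rw [← hPx]
    exact y.2

end Cfsg.Agent.H535.K4.Ly
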