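import Cfsg.Agent.TypeM.Two

/-!
# The double cover of the alternating group of degree 11: cubing the 2-part (helper535, for S4547, row Ly)

`K : Cover (Fin 11) C`, `x y : C` commuting, `y` of odd order, `z ∈ ⟨x⟩`:

* `conj_two` : `x ^ 2 = z`: `x y` is conjugate to `x ^ 3 y`;
* `conj_four` : `x ^ 4 = z`: `x y` is conjugate to `x ^ 3 y` or the image of `x y` has cycle type `{5, 4, 2}`;
* `no_eight` : `x ^ 8 = z` is impossible;
* `conj_of_bad` : two elements with image of cycle type `{5, 4, 2}` are conjugate up to `z`.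
-/

set_option autoImplicit false

namespace Cfsg.Agent.H535.K4.Ly

open Subgroup Equiv Cfsg.Agent.SporRec.TwoAn

section perm

variable {α : Type*} [Fintype α] [DecidableEq α]

omit [Fintype α] [DecidableEq α] in
theorem fix_of_four {τ : Perm α} {n : ℕ} (hn : Odd n) (hτ : τ ^ n = 1) {a : α} (h : τ (τ (τ (τ a))) = a) : τ a = a := by
  have h4 : Function.IsPeriodicPt τ 4 a := h
  have h1 : Function.IsPeriodicPt τ n a := by
    show (τ : α → α)^[n] a = a
    rw [← Perm.coe_pow, hτ]
    rfl
  have h2 := h4.gcd h1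
  have h3 : Nat.gcd 4 n = 1 := by
    rw [show (4 : ℕ) = 2 ^ 2 from rfl]
    exact Nat.Coprime.pow_left 2 (Nat.coprime_two_left.2 hn)
  rw [h3] at h2
  exact h2

/-- A permutation of odd order commuting with an involution which moves four points fixes these points. -/
theorem fix_of_comm {δ τ : Perm α} (h2 : δ * δ = 1) (h4 : δ.support.card = 4) (hc : τ * δ = δ * τ) {n : ℕ} (hn : Odd n)
    (hτ : τ ^ n = 1) {p : α} (hp : δ p ≠ p) : τ p = p := by
  have hd : ∀ x, δ (δ x) = x := fun x => by
    have := congrArg (fun f : Perm α => f x) h2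
    simpa using this
  have hcx : ∀ x, τ (δ x) = δ (τ x) := fun x => by
    have := congrArg (fun f : Perm α => f x) hc
    simpa using this
  apply fix_of_four hn hτ
  by_cases h5 : τ p = p
  · rw [h5, h5, h5, h5]
  by_cases h6 : τ p = δ p
  · rw [h6, hcx, h6, hd, h6, hcx, h6, hd]
  -- the support
  have h7 : δ (τ p) ≠ τ p := by
    rw [← hcx]
    exact fun h => hp (τ.injective h)
  have hmem : ∀ x, δ x ≠ x → x = p ∨ x = δ p ∨ x = τ p ∨ x = δ (τ p) := by
    have h8 : ({p, δ p, τ p, δ (τ p)} : Finset α) = δ.support := by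
      apply Finset.eq_of_subset_of_card_le
      · intro x hx
        simp only [Finset.mem_insert, Finset.mem_singleton] at hx
        rw [Perm.mem_support]
        rcases hx with rfl | rfl | rfl | rfl
        · exact hp
        · rw [hd]; exact hp.symm
        · exact h7
        · rw [hd]; exact h7.symm
      · rw [h4, Finset.card_insert_of_notMem, Finset.card_insert_of_notMem, Finset.card_insert_of_notMem,
          Finset.card_singleton]
        · rw [Finset.mem_singleton]; exact h7.symm
        · simp only [Finset.mem_insert, Finset.mem_singleton, not_or]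
          refine ⟨fun h => h6 h.symm, fun h => h5 ?_⟩
          have := congrArg δ h
          rw [hd, hd] at this
          exact this.symm
        · simp only [Finset.mem_insert, Finset.mem_singleton, not_or]
          refine ⟨fun h => hp h.symm, fun h => h5 h.symm, fun h => h6 ?_⟩
          have := congrArg δ h
          rw [hd] at this
          exact this.symm
    intro x hx
    have h9 : x ∈ ({p, δ p, τ p, δ (τ p)} : Finset α) := by
      rw [h8, Perm.mem_support]; exact hx
    simpa only [Finset.mem_insert, Finset.mem_singleton] using h9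
  have h8 : δ (τ (τ p)) ≠ τ (τ p) := by
    rw [← hcx, ← hcx]
    exact fun h => hp (τ.injective (τ.injective h))
  rcases hmem _ h8 with h | h | h | h
  · rw [h, h]
  · rw [h, hcx, hcx, h, hd]
  · exact absurd (τ.injective h) h5
  · rw [← hcx] at h
    exact absurd (τ.injective h) h6

omit [Fintype α] in
/-- the double transposition -/
theorem double_apply {a b c d : α} (hac : a ≠ c) (had : a ≠ d) (hbc : b ≠ c) (hbd : b ≠ d)
    (x : α) : (swap a b * swap c d) x = if x = a then b else if x = b then a else if x = c then d else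
      if x = d then c else x := by
  simp only [Perm.mul_apply, swap_apply_def]
  split_ifs <;> simp_all

omit [Fintype α] in
theorem double_fix {a b c d : α} (hab : a ≠ b) (hac : a ≠ c) (had : a ≠ d) (hbc : b ≠ c) (hbd : b ≠ d) (hcd : c ≠ d)
    {p : α} (hp : (swap a b * swap c d) p = p) : p ≠ a ∧ p ≠ b ∧ p ≠ c ∧ p ≠ d := by
  rw [double_apply hac had hbc hbd] at hp
  refine ⟨?_, ?_, ?_, ?_⟩
  · rintro rfl
    rw [if_pos rfl] at hp
    exact hab hp.symm
  · rintro rfl
    rw [if_neg hab.symm, if_pos rfl] at hp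
    exact hab hp
  · rintro rfl
    rw [if_neg hac.symm, if_neg hbc.symm, if_pos rfl] at hp
    exact hcd hp.symm
  · rintro rfl
    rw [if_neg had.symm, if_neg hbd.symm, if_neg hcd.symm, if_pos rfl] at hp
    exact hcd hp

omit [Fintype α] in
theorem double_eq {a b c d : α} (hac : a ≠ c) (had : a ≠ d) (hbc : b ≠ c) (hbd : b ≠ d)
    {p : α} (h1 : p ≠ a) (h2 : p ≠ b) (h3 : p ≠ c) (h4 : p ≠ d) : (swap a b * swap c d) p = p := by
  rw [double_apply hac had hbc hbd, if_neg h1, if_neg h2, if_neg h3, if_neg h4]

/-- the exceptional images -/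
def Bad (σ : Perm α) : Prop := σ.cycleType = {5, 4, 2} ∧ ∃ e f, e ≠ f ∧ σ e = f ∧ σ f = e

theorem eq_singleton_of_sum {m : Multiset ℕ} {k s : ℕ} (h : ∀ i ∈ m, k ≤ i) (hs : m.sum = s) (h0 : s ≠ 0) (hk : s < 2 * k) :
    m = {s} := by
  have h1 : m.card • k ≤ m.sum := Multiset.card_nsmul_le_sum h
  rw [hs, smul_eq_mul] at h1
  have h2 : m.card ≤ 1 := by
    by_contra h3
    have h4 : 2 * k ≤ m.card * k := Nat.mul_le_mul_right k (by omega)
    omega
  have h3 : m.card = 1 := by
    rcases Nat.eq_zero_or_pos m.card with h4 | h4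
    · rw [Multiset.card_eq_zero] at h4
      rw [h4, Multiset.sum_zero] at hs
      exact absurd hs.symm h0
    · omega
  obtain ⟨i, rfl⟩ := Multiset.card_eq_one.1 h3
  rw [Multiset.sum_singleton] at hs
  rw [hs]

/-- cycle type of a permutation of order 4 moving six points -/
theorem cycleType_six {σ : Perm α} (h4 : σ ^ 4 = 1) (h2 : σ ^ 2 ≠ 1) (hs : σ.support.card = 6) :
    σ.cycleType = {4, 2} := by
  have hd : ∀ i ∈ σ.cycleType, i = 2 ∨ i = 4 := by
    intro i hi
    have h3 : i ∣ 4 := (Perm.dvd_of_mem_cycleType hi).trans (orderOf_dvd_of_pow_eq_one h4)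
    have h5 := Perm.two_le_of_mem_cycleType hi
    have h6 : i ≤ 4 := Nat.le_of_dvd (by norm_num) h3
    interval_cases i
    · exact Or.inl rfl
    · exact absurd h3 (by norm_num)
    · exact Or.inr rfl
  have h6 : (4 : ℕ) ∈ σ.cycleType := by
    by_contra h
    apply h2
    rw [← orderOf_dvd_iff_pow_eq_one, ← Perm.lcm_cycleType]
    apply Multiset.lcm_dvd.2
    intro i hi
    rcases hd i hi with rfl | rfl
    · exact dvd_rfl
    · exact absurd hi h
  obtain ⟨m, hm⟩ := Multiset.exists_cons_of_mem h6
  have h7 : m.sum = 2 := by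
    have h8 := σ.sum_cycleType
    rw [hm, Multiset.sum_cons, hs] at h8
    omega
  have h9 : m = {2} := eq_singleton_of_sum (k := 2) (fun i hi => Perm.two_le_of_mem_cycleType (σ := σ) (by
    rw [hm]; exact Multiset.mem_cons_of_mem hi)) h7 (by norm_num) (by norm_num)
  rw [hm, h9]
  rfl

/-- cycle type of a permutation of odd order moving four or five points -/
theorem cycleType_five {τ : Perm α} {n : ℕ} (hn : Odd n) (hτ : τ ^ n = 1) (h4 : 4 ≤ τ.support.card)
    (h5 : τ.support.card ≤ 5) : τ.cycleType = {5} := by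
  have ho : ∀ i ∈ τ.cycleType, Odd i := fun i hi =>
    hn.of_dvd_nat ((Perm.dvd_of_mem_cycleType hi).trans (orderOf_dvd_of_pow_eq_one hτ))
  have h3 : ∀ i ∈ τ.cycleType, 3 ≤ i := by
    intro i hi
    have h1 := Perm.two_le_of_mem_cycleType hi
    have h2 := ho i hi
    rcases Nat.lt_or_ge i 3 with h | h
    · have : i = 2 := by omega
      rw [this] at h2
      exact absurd h2 (by decide)
    · exact h
  have h6 := eq_singleton_of_sum h3 τ.sum_cycleType (by omega) (by omega)
  have h7 : Odd τ.support.card := ho _ (by rw [h6]; exact Multiset.mem_singleton_self _)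
  have h8 : τ.support.card = 5 := by
    rcases Nat.lt_or_ge τ.support.card 5 with h | h
    · have : τ.support.card = 4 := by omega
      rw [this] at h7
      exact absurd h7 (by decide)
    · omega
  rw [h6, h8]

end perm

section cover

variable {C : Type*} [Group C] (K : Cover (Fin 11) C)

theorem z_comm' (g : C) : K.z * g = g * K.z := (K.z_comm g).symm

/-- elements with square `z` -/
theorem double_of_sq {w : C} (hw : w * w = K.z) : ∃ a b c d : Fin 11, a ≠ b ∧ a ≠ c ∧ a ≠ d ∧ b ≠ c ∧ b ≠ d ∧ c ≠ d ∧
    K.π w = swap a b * swap c d ∧ (K.π w).support.card = 4 := by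
  have h2 : K.π w * K.π w = 1 := by rw [← map_mul, hw, K.π_z]
  have h1 : K.π w ≠ 1 := by
    intro h
    rcases (K.ker _).1 h with h | h
    · rw [h, mul_one] at hw; exact K.z_ne hw.symm
    · rw [h, K.z_mul_z] at hw; exact K.z_ne hw.symm
  obtain ⟨k, hk, hz⟩ := K.exists_sq _ h2 rfl
  have hk1 : k = 1 := by
    have h3 : (K.π w).support.card ≤ 11 := by simpa using Finset.card_le_univ (K.π w).support
    rw [hw, K.z_pow] at hz
    split_ifs at hz with he
    · exact absurd hz K.z_ne
    · obtain ⟨m, rfl⟩ := Nat.not_even_iff_odd.1 he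
      omega
  obtain ⟨a, b, c, d, hab, hac, had, hbc, hbd, hcd, -, -, -, -, u, g', hu, hgu, hval, hinv, hcard⟩ := K.exists_split h2 h1
  refine ⟨a, b, c, d, hab, hac, had, hbc, hbd, hcd, ?_, by omega⟩
  have h4 : K.π g' = 1 := by
    rw [← Perm.support_eq_empty_iff, ← Finset.card_eq_zero]
    omega
  rw [hgu, map_mul, hu, h4, mul_one]

theorem conj_two {x y : C} (hx : x * x = K.z) (hxy : x * y = y * x) {n : ℕ} (hn : Odd n) (hy : y ^ n = 1) :
    ∃ h : C, h * (x * y) * h⁻¹ = x ^ 3 * y := by
  obtain ⟨a, b, c, d, hab, hac, had, hbc, hbd, hcd, hx', hc4⟩ := double_of_sq K hx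
  obtain ⟨w, hw⟩ := K.exists_lift (Cover.swap_mul_swap_mem a c b d hac hbd)
  have hwx : w * x = x * w * K.z := K.anticomm hab hac had hbc hbd hcd hx' hw
  have hδ2 : K.π x * K.π x = 1 := by rw [← map_mul, hx, K.π_z]
  have hy' : (K.π y) ^ n = 1 := by rw [← map_pow, hy, map_one]
  have hxy' : K.π y * K.π x = K.π x * K.π y := by rw [← map_mul, ← hxy, map_mul]
  have hfix : ∀ p, K.π x p ≠ p → K.π y p = p := fun p hp => fix_of_comm hδ2 hc4 hxy' hn hy' hp
  have hwy : w * y = y * w := by
    apply K.commute_of_disjoint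
    intro p
    by_cases hp : K.π x p = p
    · left
      rw [hx'] at hp
      obtain ⟨h1, h2, h3, h4⟩ := double_fix hab hac had hbc hbd hcd hp
      rw [hw]
      exact double_eq hab had hbc.symm hcd h1 h3 h2 h4
    · exact Or.inr (hfix p hp)
  refine ⟨w, ?_⟩
  have hz := K.z_comm
  calc w * (x * y) * w⁻¹ = (w * x) * y * w⁻¹ := by group
    _ = x * w * (K.z * y) * w⁻¹ := by rw [hwx]; group
    _ = x * (w * y) * (K.z * w⁻¹) := by rw [← hz y]; group
    _ = x * (y * w) * (w⁻¹ * K.z) := by rw [hwy, ← hz w⁻¹]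
    _ = x * (y * K.z) := by group
    _ = x * (x * x * y) := by rw [hz y, hx]
    _ = x ^ 3 * y := by rw [pow_succ, pow_two]; group

/-- the image of an element whose fourth power is `z` -/
theorem exists_four {x : C} (hx : x * x * (x * x) = K.z) : ∃ a b c d : Fin 11, a ≠ b ∧ a ≠ c ∧ a ≠ d ∧ b ≠ c ∧ b ≠ d ∧
    c ≠ d ∧ K.π x a = b ∧ K.π x b = c ∧ K.π x c = d ∧ K.π x d = a ∧
    (∀ p, p ≠ a → p ≠ b → p ≠ c → p ≠ d → K.π x (K.π x p) = p) ∧ (K.π (x * x)).support.card = 4 := by
  obtain ⟨a, c, b, d, hac, hab, had, hcb, hcd, hbd, hδ, h4⟩ := double_of_sq K hx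
  have hσδ : ∀ p, K.π x (K.π x p) = K.π (x * x) p := fun p => by rw [map_mul, Perm.mul_apply]
  have ha : K.π (x * x) a = c := by rw [hδ, double_apply hab had hcb hcd, if_pos rfl]
  have hc : K.π (x * x) c = a := by rw [hδ, double_apply hab had hcb hcd, if_neg hac.symm, if_pos rfl]
  have hb : K.π (x * x) b = d := by
    rw [hδ, double_apply hab had hcb hcd, if_neg hab.symm, if_neg hcb.symm, if_pos rfl]
  have hd : K.π (x * x) d = b := by
    rw [hδ, double_apply hab had hcb hcd, if_neg had.symm, if_neg hcd.symm, if_neg hbd.symm, if_pos rfl]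
  have hfix : ∀ p, p ≠ a → p ≠ b → p ≠ c → p ≠ d → K.π x (K.π x p) = p := fun p h1 h2 h3 h4 => by
    rw [hσδ, hδ]
    exact double_eq hab had hcb hcd h1 h3 h2 h4
  have hcomm : ∀ p, K.π x (K.π (x * x) p) = K.π (x * x) (K.π x p) := fun p => by rw [← hσδ, ← hσδ]
  have h5 : K.π x a = b ∨ K.π x a = d := by
    by_contra h
    push Not at h
    obtain ⟨hb', hd'⟩ := h
    have ha' : K.π x a ≠ a := fun h => by
      have h6 := hσδ a
      rw [h, h, ha] at h6
      exact hac h6
    have hc' : K.π x a ≠ c := fun h => by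
      have h6 := hσδ a
      rw [h, ha] at h6
      exact hac ((K.π x).injective (h.trans h6.symm))
    have h6 := hfix _ ha' hb' hc' hd'
    rw [hσδ, ← hcomm, ha] at h6
    exact hac ((K.π x).injective h6).symm
  rcases h5 with h5 | h5
  · have hb' : K.π x b = c := by rw [← h5, hσδ, ha]
    have hc' : K.π x c = d := by rw [← hb', hσδ, hb]
    have hd' : K.π x d = a := by rw [← hc', hσδ, hc]
    exact ⟨a, b, c, d, hab, hac, had, hcb.symm, hbd, hcd, h5, hb', hc', hd', hfix, h4⟩
  · have hd' : K.π x d = c := by rw [← h5, hσδ, ha]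
    have hc' : K.π x c = b := by rw [← hd', hσδ, hd]
    have hb' : K.π x b = a := by rw [← hc', hσδ, hc]
    exact ⟨a, d, c, b, had, hac, hab, hcd.symm, hbd.symm, hcb, h5, hd', hc', hb',
      fun p h1 h2 h3 h4 => hfix p h1 h4 h3 h2, h4⟩

/-- there is no element of order 16 over `z` -/
theorem no_eight {w : C} (hw : w * w * (w * w) * (w * w * (w * w)) = K.z) : False := by
  obtain ⟨a, b, c, d, hab, hac, had, hbc, hbd, hcd, ha, hb, hc, hd, hfix, -⟩ := exists_four K (x := w * w) hw
  have hθ : ∀ p, K.π w (K.π w p) = K.π (w * w) p := fun p => by rw [map_mul, Perm.mul_apply]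
  have hcomm : ∀ p, K.π w (K.π (w * w) p) = K.π (w * w) (K.π w p) := fun p => by rw [← hθ, ← hθ]
  have h1 : K.π w a = a ∨ K.π w a = b ∨ K.π w a = c ∨ K.π w a = d := by
    by_contra h
    push Not at h
    obtain ⟨h1, h2, h3, h4⟩ := h
    have h5 := hfix _ h1 h2 h3 h4
    rw [← hcomm, ← hcomm, ha, hb] at h5
    exact hac ((K.π w).injective h5).symm
  rcases h1 with h1 | h1 | h1 | h1
  · have h2 := hθ a
    rw [h1, h1, ha] at h2
    exact hab h2
  · have h2 := hθ a
    rw [h1, ha] at h2
    exact hab ((K.π w).injective (h1.trans h2.symm))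
  · have h2 : K.π w c = b := by rw [← h1, hθ, ha]
    have h3 : K.π w b = d := by rw [← h2, hθ, hc]
    have h4 : K.π w d = c := by rw [← h3, hθ, hb]
    exact had ((K.π w).injective (h1.trans h4.symm))
  · have h2 : K.π w d = b := by rw [← h1, hθ, ha]
    have h3 : K.π w b = a := by rw [← h2, hθ, hd]
    have h4 : K.π w a = c := by rw [← h3, hθ, hb]
    exact hcd (h4.symm.trans h1)

/-- **the 2-part has order 8** -/
theorem conj_four {x y : C} (hx : x * x * (x * x) = K.z) (hxy : x * y = y * x) {n : ℕ} (hn : Odd n) (hy : y ^ n = 1) :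
    (∃ h : C, h * (x * y) * h⁻¹ = x ^ 3 * y) ∨ Bad (K.π (x * y)) := by
  obtain ⟨a, b, c, d, hab, hac, had, hbc, hbd, hcd, ha, hb, hc, hd, hfix, hδ4⟩ := exists_four K hx
  have hz := K.z_comm
  have hzz := K.z_mul_z
  have hσ : ∀ p, K.π (x * x) p = K.π x (K.π x p) := fun p => by rw [map_mul, Perm.mul_apply]
  -- `y` fixes `a`, `b`, `c`, `d`
  have hy' : (K.π y) ^ n = 1 := by rw [← map_pow, hy, map_one]
  have hδ2 : K.π (x * x) * K.π (x * x) = 1 := by rw [← map_mul, hx, K.π_z]
  have hxx : K.π y * K.π (x * x) = K.π (x * x) * K.π y := by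
    rw [← map_mul, ← map_mul, ← mul_assoc, ← hxy, mul_assoc, ← hxy, mul_assoc]
  have hya : ∀ p, p = a ∨ p = b ∨ p = c ∨ p = d → K.π y p = p := by
    intro p hp
    refine fix_of_comm hδ2 hδ4 hxx hn hy' ?_
    rw [hσ]
    rcases hp with rfl | rfl | rfl | rfl
    · rw [ha, hb]; exact hac.symm
    · rw [hb, hc]; exact hbd.symm
    · rw [hc, hd]; exact hac
    · rw [hd, ha]; exact hbd
  -- the images of the other points
  have hpres : ∀ p, p ≠ a → p ≠ b → p ≠ c → p ≠ d →
      K.π x p ≠ a ∧ K.π x p ≠ b ∧ K.π x p ≠ c ∧ K.π x p ≠ d := by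
    intro p h1 h2 h3 h4
    exact ⟨fun h => h4 ((K.π x).injective (h.trans hd.symm)), fun h => h1 ((K.π x).injective (h.trans ha.symm)),
      fun h => h2 ((K.π x).injective (h.trans hb.symm)), fun h => h3 ((K.π x).injective (h.trans hc.symm))⟩
  obtain ⟨u, hu⟩ := K.exists_lift (Cover.swap_mul_swap_mem a b c d hab hcd)
  have huu : u * u = K.z := K.dbl a b c d hab hac had hbc hbd hcd u hu
  have hui : u⁻¹ = u * K.z := by
    rw [inv_eq_iff_mul_eq_one, ← mul_assoc, huu, hzz]
  have huy : u * y = y * u := by
    apply K.commute_of_disjoint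
    intro p
    by_cases hp : p = a ∨ p = b ∨ p = c ∨ p = d
    · exact Or.inr (hya p hp)
    · push Not at hp
      left
      rw [hu]
      exact double_eq hac had hbc hbd hp.1 hp.2.1 hp.2.2.1 hp.2.2.2
  -- the permutation `ρ`
  obtain ⟨ρ, hρ⟩ : ∃ ρ, ρ = K.π (u * x) := ⟨_, rfl⟩
  have hρap : ∀ p, ρ p = (swap a b * swap c d) (K.π x p) := fun p => by rw [hρ, map_mul, Perm.mul_apply, hu]
  have hρa : ρ a = a := by
    rw [hρap, ha, double_apply hac had hbc hbd, if_neg hab.symm, if_pos rfl]
  have hρb : ρ b = d := by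
    rw [hρap, hb, double_apply hac had hbc hbd, if_neg hac.symm, if_neg hbc.symm, if_pos rfl]
  have hρc : ρ c = c := by
    rw [hρap, hc, double_apply hac had hbc hbd, if_neg had.symm, if_neg hbd.symm, if_neg hcd.symm, if_pos rfl]
  have hρd : ρ d = b := by
    rw [hρap, hd, double_apply hac had hbc hbd, if_pos rfl]
  have hρo : ∀ p, p ≠ a → p ≠ b → p ≠ c → p ≠ d → ρ p = K.π x p := by
    intro p h1 h2 h3 h4
    obtain ⟨h5, h6, h7, h8⟩ := hpres p h1 h2 h3 h4
    rw [hρap]
    exact double_eq hac had hbc hbd h5 h6 h7 h8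
  have hρρ : K.π (u * x) * K.π (u * x) = 1 := by
    rw [← hρ]
    ext1 p
    rw [Perm.mul_apply, Perm.one_apply]
    by_cases h1 : p = a
    · rw [h1, hρa, hρa]
    by_cases h2 : p = b
    · rw [h2, hρb, hρd]
    by_cases h3 : p = c
    · rw [h3, hρc, hρc]
    by_cases h4 : p = d
    · rw [h4, hρd, hρb]
    obtain ⟨h5, h6, h7, h8⟩ := hpres p h1 h2 h3 h4
    rw [hρo p h1 h2 h3 h4, hρo _ h5 h6 h7 h8, hfix p h1 h2 h3 h4]
  obtain ⟨k, hk, hkz⟩ := K.exists_sq _ hρρ rfl
  rw [← hρ] at hk
  have hk1 : k = 1 ∨ k = 2 := by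
    have h1 : ρ.support.card ≤ 9 := by
      have h2 : ρ.support ⊆ (Finset.univ.erase a).erase c := by
        intro p hp
        rw [Perm.mem_support] at hp
        rw [Finset.mem_erase, Finset.mem_erase]
        exact ⟨fun h => hp (by rw [h]; exact hρc), fun h => hp (by rw [h]; exact hρa), Finset.mem_univ _⟩
      have h3 := Finset.card_le_card h2
      rw [Finset.card_erase_of_mem (Finset.mem_erase.2 ⟨hac.symm, Finset.mem_univ _⟩),
        Finset.card_erase_of_mem (Finset.mem_univ _), Finset.card_univ, Fintype.card_fin] at h3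
      exact h3
    have h2 : 0 < ρ.support.card := by
      rw [Finset.card_pos]
      exact ⟨b, by rw [Perm.mem_support, hρb]; exact hbd.symm⟩
    omega
  have hx3 : x ^ 3 = x⁻¹ * K.z := by
    rw [← hx, pow_succ, pow_two]
    group
  rcases hk1 with rfl | rfl
  · -- the support of `x` has six points
    rw [pow_one] at hkz
    have hux : u * x * u⁻¹ = x ^ 3 * K.z := by
      rw [hui, hx3]
      have h1 : u * x * u = K.z * x⁻¹ := by rw [← hkz]; group
      calc u * x * (u * K.z) = u * x * u * K.z := by group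
        _ = K.z * x⁻¹ * K.z := by rw [h1]
        _ = x⁻¹ * K.z * K.z := by rw [← hz x⁻¹]
    have h4 : ρ.support.card = 4 := by omega
    -- `y` fixes the points moved by `x`
    have hyρ : K.π y * ρ = ρ * K.π y := by
      rw [hρ, ← map_mul, ← map_mul, ← mul_assoc, ← huy, mul_assoc, ← hxy, mul_assoc]
    have hyfix : ∀ p, ρ p ≠ p → K.π y p = p := fun p hp =>
      fix_of_comm (by rw [hρ]; exact hρρ) h4 hyρ hn hy' hp
    obtain ⟨e, he, heb, hed⟩ : ∃ e, ρ e ≠ e ∧ e ≠ b ∧ e ≠ d := by
      by_contra hcon
      push Not at hcon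
      have h5 : ρ.support ⊆ {b, d} := by
        intro p hp
        rw [Perm.mem_support] at hp
        rw [Finset.mem_insert, Finset.mem_singleton]
        by_cases h6 : p = b
        · exact Or.inl h6
        · exact Or.inr (hcon p hp h6)
      have h6 := Finset.card_le_card h5
      rw [h4, Finset.card_pair hbd] at h6
      omega
    have hea : e ≠ a := fun h => he (by rw [h]; exact hρa)
    have hec : e ≠ c := fun h => he (by rw [h]; exact hρc)
    obtain ⟨f, hf⟩ : ∃ f, f = K.π x e := ⟨_, rfl⟩
    have hρe : ρ e = f := by rw [hf]; exact hρo e hea heb hec hed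
    have hef : e ≠ f := fun h => he (by rw [hρe]; exact h.symm)
    obtain ⟨hfa, hfb, hfc, hfd⟩ := hpres e hea heb hec hed
    rw [← hf] at hfa hfb hfc hfd
    have hfe : K.π x f = e := by rw [hf]; exact hfix e hea heb hec hed
    have hρf : ρ f = e := by rw [hρo f hfa hfb hfc hfd, hfe]
    -- the support of `ρ`
    have hsupp : ρ.support = {b, d, e, f} := by
      symm
      apply Finset.eq_of_subset_of_card_le
      · intro p hp
        simp only [Finset.mem_insert, Finset.mem_singleton] at hp
        rw [Perm.mem_support]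
        rcases hp with rfl | rfl | rfl | rfl
        · rw [hρb]; exact hbd.symm
        · rw [hρd]; exact hbd
        · exact he
        · rw [hρf]; exact hef
      · rw [h4, Finset.card_insert_of_notMem, Finset.card_insert_of_notMem, Finset.card_insert_of_notMem,
          Finset.card_singleton]
        · rw [Finset.mem_singleton]; exact hef
        · simp only [Finset.mem_insert, Finset.mem_singleton, not_or]
          exact ⟨hed.symm, hfd.symm⟩
        · simp only [Finset.mem_insert, Finset.mem_singleton, not_or]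
          exact ⟨hbd, heb.symm, hfb.symm⟩
    obtain ⟨T, hT⟩ : ∃ T : Finset (Fin 11), T = {a, b, c, d, e, f} := ⟨_, rfl⟩
    have hmemT : ∀ p, p ∈ T ↔ p = a ∨ p = b ∨ p = c ∨ p = d ∨ p = e ∨ p = f := by
      intro p
      rw [hT]
      simp only [Finset.mem_insert, Finset.mem_singleton]
    have hTc : T.card = 6 := by
      rw [hT, Finset.card_insert_of_notMem, Finset.card_insert_of_notMem, Finset.card_insert_of_notMem,
        Finset.card_insert_of_notMem, Finset.card_insert_of_notMem, Finset.card_singleton]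
      · rw [Finset.mem_singleton]; exact hef
      · simp only [Finset.mem_insert, Finset.mem_singleton, not_or]
        exact ⟨hed.symm, hfd.symm⟩
      · simp only [Finset.mem_insert, Finset.mem_singleton, not_or]
        exact ⟨hcd, hec.symm, hfc.symm⟩
      · simp only [Finset.mem_insert, Finset.mem_singleton, not_or]
        exact ⟨hbc, hbd, heb.symm, hfb.symm⟩
      · simp only [Finset.mem_insert, Finset.mem_singleton, not_or]
        exact ⟨hab, hac, had, hea.symm, hfa.symm⟩
    have hxT : ∀ p, p ∉ T → K.π x p = p := by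
      intro p hp
      rw [hmemT] at hp
      push Not at hp
      obtain ⟨h1, h2, h3, h5, h6, h7⟩ := hp
      rw [← hρo p h1 h2 h3 h5]
      by_contra h8
      have h9 : p ∈ ρ.support := Perm.mem_support.2 h8
      rw [hsupp] at h9
      simp only [Finset.mem_insert, Finset.mem_singleton] at h9
      rcases h9 with h9 | h9 | h9 | h9
      · exact h2 h9
      · exact h5 h9
      · exact h6 h9
      · exact h7 h9
    have hyT : ∀ p, p ∈ T → K.π y p = p := by
      intro p hp
      rw [hmemT] at hp
      rcases hp with h | h | h | h | h | h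
      · exact hya p (by tauto)
      · exact hya p (by tauto)
      · exact hya p (by tauto)
      · exact hya p (by tauto)
      · rw [h]; exact hyfix e he
      · rw [h]; exact hyfix f (by rw [hρf]; exact hef)
    by_cases hpq : ∃ p q, p ≠ q ∧ p ∉ T ∧ q ∉ T ∧ K.π y p = p ∧ K.π y q = q
    · left
      obtain ⟨p, q, hpq, hp, hq, hyp, hyq⟩ := hpq
      have hxp := hxT p hp
      have hxq := hxT q hq
      rw [hmemT] at hp hq
      push Not at hp hq
      obtain ⟨hpa, hpb, hpc, hpd, hpe, hpf⟩ := hp
      obtain ⟨hqa, hqb, hqc, hqd, hqe, hqf⟩ := hq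
      obtain ⟨v, hv⟩ := K.exists_lift (Cover.swap_mul_swap_mem e f p q hef hpq)
      obtain ⟨w, hw⟩ := K.exists_lift (Cover.swap_mul_swap_mem e p f q hpe.symm hqf.symm)
      have hvv : v * v = K.z := K.dbl e f p q hef hpe.symm hqe.symm hpf.symm hqf.symm hpq v hv
      have hvy : v * y = y * v := by
        apply K.commute_of_disjoint
        intro r
        by_cases hr : r = e ∨ r = f ∨ r = p ∨ r = q
        · right
          rcases hr with rfl | rfl | rfl | rfl
          · exact hyfix _ he
          · exact hyfix _ (by rw [hρf]; exact hef)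
          · exact hyp
          · exact hyq
        · push Not at hr
          left
          rw [hv]
          exact double_eq hpe.symm hqe.symm hpf.symm hqf.symm hr.1 hr.2.1 hr.2.2.1 hr.2.2.2
      have hwxx : w * (x * x) = x * x * w := by
        apply K.commute_of_disjoint
        intro r
        by_cases hr : r = e ∨ r = p ∨ r = f ∨ r = q
        · right
          rw [hσ]
          rcases hr with rfl | rfl | rfl | rfl
          · rw [← hf, hfe]
          · rw [hxp, hxp]
          · rw [hfe, ← hf]
          · rw [hxq, hxq]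
        · push Not at hr
          left
          rw [hw]
          exact double_eq hef hqe.symm hpf hpq hr.1 hr.2.1 hr.2.2.1 hr.2.2.2
      -- the values of `v` and `w`
      have Ve : K.π v e = f := by
        rw [hv, double_apply hpe.symm hqe.symm hpf.symm hqf.symm, if_pos rfl]
      have Vf : K.π v f = e := by
        rw [hv, double_apply hpe.symm hqe.symm hpf.symm hqf.symm, if_neg hef.symm, if_pos rfl]
      have Vp : K.π v p = q := by
        rw [hv, double_apply hpe.symm hqe.symm hpf.symm hqf.symm, if_neg hpe, if_neg hpf, if_pos rfl]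
      have Vq : K.π v q = p := by
        rw [hv, double_apply hpe.symm hqe.symm hpf.symm hqf.symm, if_neg hqe, if_neg hqf, if_neg hpq.symm, if_pos rfl]
      have Vo : ∀ r, r ≠ e → r ≠ f → r ≠ p → r ≠ q → K.π v r = r := by
        intro r h1 h2 h3 h5
        rw [hv]
        exact double_eq hpe.symm hqe.symm hpf.symm hqf.symm h1 h2 h3 h5
      have We : K.π w e = p := by
        rw [hw, double_apply hef hqe.symm hpf hpq, if_pos rfl]
      have Wp : K.π w p = e := by
        rw [hw, double_apply hef hqe.symm hpf hpq, if_neg hpe, if_pos rfl]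
      have Wf : K.π w f = q := by
        rw [hw, double_apply hef hqe.symm hpf hpq, if_neg hef.symm, if_neg hpf.symm, if_pos rfl]
      have Wq : K.π w q = f := by
        rw [hw, double_apply hef hqe.symm hpf hpq, if_neg hqe, if_neg hpq.symm, if_neg hqf, if_pos rfl]
      have Wo : ∀ r, r ≠ e → r ≠ f → r ≠ p → r ≠ q → K.π w r = r := by
        intro r h1 h2 h3 h5
        rw [hw]
        exact double_eq hef hqe.symm hpf hpq h1 h3 h2 h5
      have hxo : ∀ r, r ≠ e → r ≠ f → r ≠ p → r ≠ q →
          K.π x r ≠ e ∧ K.π x r ≠ f ∧ K.π x r ≠ p ∧ K.π x r ≠ q := by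
        intro r h1 h2 h3 h5
        exact ⟨fun h => h2 ((K.π x).injective (h.trans hfe.symm)), fun h => h1 ((K.π x).injective (h.trans hf)),
          fun h => h3 ((K.π x).injective (h.trans hxp.symm)), fun h => h5 ((K.π x).injective (h.trans hxq.symm))⟩
      have hvx : K.π v * K.π x = K.π x * K.π v := by
        ext1 r
        rw [Perm.mul_apply, Perm.mul_apply]
        by_cases h1 : r = e
        · rw [h1, ← hf, Vf, Ve, hfe]
        by_cases h2 : r = f
        · rw [h2, hfe, Ve, Vf, ← hf]
        by_cases h3 : r = p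
        · rw [h3, hxp, Vp, hxq]
        by_cases h5 : r = q
        · rw [h5, hxq, Vq, hxp]
        obtain ⟨h6, h7, h8, h9⟩ := hxo r h1 h2 h3 h5
        rw [Vo r h1 h2 h3 h5, Vo _ h6 h7 h8 h9]
      have hwx : K.π (w * x) = K.π (x * v * w) := by
        rw [map_mul, map_mul, map_mul]
        ext1 r
        rw [Perm.mul_apply, Perm.mul_apply, Perm.mul_apply]
        by_cases h1 : r = e
        · rw [h1, ← hf, Wf, We, Vp, hxq]
        by_cases h2 : r = f
        · rw [h2, hfe, We, Wf, Vq, hxp]
        by_cases h3 : r = p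
        · rw [h3, hxp, Wp, Ve, hfe]
        by_cases h5 : r = q
        · rw [h5, hxq, Wq, Vf, ← hf]
        obtain ⟨h6, h7, h8, h9⟩ := hxo r h1 h2 h3 h5
        rw [Wo r h1 h2 h3 h5, Vo r h1 h2 h3 h5, Wo _ h6 h7 h8 h9]
      -- `v` and `x` do not commute
      have hvxz : v * x = x * v * K.z := by
        rcases K.comm_or hvx with h | h
        · exfalso
          have h1 : (w * x * w⁻¹) * (w * x * w⁻¹) = x * x * K.z := by
            rcases K.lift_eq hwx with h2 | h2
            · have h3 : w * x * w⁻¹ = x * v := by rw [h2]; group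
              rw [h3]
              calc x * v * (x * v) = x * (v * x) * v := by group
                _ = x * x * (v * v) := by rw [h]; group
                _ = x * x * K.z := by rw [hvv]
            · have h3 : w * x * w⁻¹ = x * v * K.z := by
                rw [h2, mul_assoc (x * v * w), ← hz w⁻¹]
                group
              rw [h3]
              calc x * v * K.z * (x * v * K.z) = x * v * (K.z * (x * v)) * K.z := by group
                _ = x * v * (x * v) * (K.z * K.z) := by rw [← hz (x * v)]; group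
                _ = x * v * (x * v) := by rw [hzz, mul_one]
                _ = x * (v * x) * v := by group
                _ = x * x * (v * v) := by rw [h]; group
                _ = x * x * K.z := by rw [hvv]
          have h2 : (w * x * w⁻¹) * (w * x * w⁻¹) = x * x := by
            calc (w * x * w⁻¹) * (w * x * w⁻¹) = w * (x * x) * w⁻¹ := by group
              _ = x * x := by rw [hwxx]; group
          rw [h2] at h1
          exact K.mul_z_ne _ h1.symm
        · exact h
      refine ⟨u * v, ?_⟩
      have h1 : v * (x * y) * v⁻¹ = x * y * K.z := by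
        calc v * (x * y) * v⁻¹ = v * x * y * v⁻¹ := by group
          _ = x * v * (K.z * y) * v⁻¹ := by rw [hvxz]; group
          _ = x * (v * y) * (K.z * v⁻¹) := by rw [← hz y]; group
          _ = x * (y * v) * (v⁻¹ * K.z) := by rw [hvy, ← hz v⁻¹]
          _ = x * y * K.z := by group
      calc u * v * (x * y) * (u * v)⁻¹ = u * (v * (x * y) * v⁻¹) * u⁻¹ := by group
        _ = u * (x * y * K.z) * u⁻¹ := by rw [h1]
        _ = u * x * (y * (K.z * u⁻¹)) := by group
        _ = u * x * (y * (u⁻¹ * K.z)) := by rw [← hz u⁻¹]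
        _ = u * x * u⁻¹ * (u * y) * u⁻¹ * K.z := by group
        _ = x ^ 3 * K.z * (y * u) * u⁻¹ * K.z := by rw [hux, huy]
        _ = x ^ 3 * (K.z * y) * K.z := by group
        _ = x ^ 3 * y * (K.z * K.z) := by rw [← hz y]; group
        _ = x ^ 3 * y := by rw [hzz, mul_one]
    · -- the exceptional case
      right
      have hfixle : (Tᶜ \ (K.π y).support).card ≤ 1 := by
        rw [Finset.card_le_one]
        intro p hp q hq
        by_contra hne
        rw [Finset.mem_sdiff, Finset.mem_compl, Perm.notMem_support] at hp hq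
        exact hpq ⟨p, q, hne, hp.1, hq.1, hp.2, hq.2⟩
      have hsub : (K.π y).support ⊆ Tᶜ := by
        intro p hp
        rw [Finset.mem_compl]
        intro hpT
        exact Perm.mem_support.1 hp (hyT p hpT)
      have hTcc : Tᶜ.card = 5 := by
        rw [Finset.card_compl, hTc, Fintype.card_fin]
      rw [Finset.card_sdiff_of_subset hsub, hTcc] at hfixle
      have hle := Finset.card_le_card hsub
      rw [hTcc] at hle
      have hct5 : (K.π y).cycleType = {5} := cycleType_five hn hy' (by omega) hle
      have hsx : (K.π x).support = T := by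
        ext p
        rw [Perm.mem_support]
        constructor
        · intro h
          by_contra hp
          exact h (hxT p hp)
        · intro h
          rw [hmemT] at h
          rcases h with rfl | rfl | rfl | rfl | rfl | rfl
          · rw [ha]; exact hab.symm
          · rw [hb]; exact hbc.symm
          · rw [hc]; exact hcd.symm
          · rw [hd]; exact had
          · rw [← hf]; exact hef.symm
          · rw [hfe]; exact hef
      have hct6 : (K.π x).cycleType = {4, 2} := by
        apply cycleType_six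
        · rw [← map_pow]
          have h1 : x ^ 4 = K.z := by rw [← hx, pow_succ, pow_succ, pow_two]; group
          rw [h1, K.π_z]
        · intro h
          have h1 := congrArg (fun g : Perm (Fin 11) => g a) h
          simp only [pow_two, Perm.mul_apply, Perm.one_apply, ha, hb] at h1
          exact hac h1.symm
        · rw [hsx, hTc]
      have hdis : (K.π x).Disjoint (K.π y) := by
        intro p
        by_cases hp : p ∈ T
        · exact Or.inr (hyT p hp)
        · exact Or.inl (hxT p hp)
      refine ⟨?_, e, f, hef, ?_, ?_⟩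
      · rw [map_mul, hdis.cycleType_mul, hct6, hct5]
        decide
      · rw [map_mul, Perm.mul_apply, hyT e ((hmemT e).2 (by tauto)), hf]
      · rw [map_mul, Perm.mul_apply, hyT f ((hmemT f).2 (by tauto)), hfe]
  · -- the support of `x` has ten points
    left
    have hz2 : K.z ^ 2 = 1 := K.z_pow_two
    rw [hz2] at hkz
    refine ⟨u, ?_⟩
    have h1 : u * x * u = x⁻¹ := by
      rw [eq_inv_iff_mul_eq_one, mul_assoc]
      exact hkz
    have hux : u * x * u⁻¹ = x ^ 3 := by
      rw [hui, hx3, ← mul_assoc, h1]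
    calc u * (x * y) * u⁻¹ = u * x * u⁻¹ * (u * y) * u⁻¹ := by group
      _ = x ^ 3 * (y * u) * u⁻¹ := by rw [hux, huy]
      _ = x ^ 3 * y := by group

/-- two elements with exceptional images -/
theorem conj_of_bad {g h : C} (hg : Bad (K.π g)) (hh : Bad (K.π h)) :
    ∃ w : C, w * g * w⁻¹ = h ∨ w * g * w⁻¹ = h * K.z := by
  obtain ⟨hg1, e, f, hef, he, hf⟩ := hg
  obtain ⟨τ, hτ⟩ := isConj_iff.1 (Perm.isConj_of_cycleType_eq (hg1.trans hh.1.symm))
  obtain ⟨τ', hτ', hc⟩ : ∃ τ' : Perm (Fin 11), τ' ∈ alternatingGroup (Fin 11) ∧ τ' * K.π g * τ'⁻¹ = K.π h := by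
    rcases Int.units_eq_one_or (Perm.sign τ) with h1 | h1
    · exact ⟨τ, Perm.mem_alternatingGroup.2 h1, hτ⟩
    · refine ⟨τ * swap e f, ?_, ?_⟩
      · rw [Perm.mem_alternatingGroup, map_mul, h1, Perm.sign_swap hef]
        decide
      · have h2 : K.π g * swap e f = swap e f * K.π g := by
          rw [mul_swap_eq_swap_mul, he, hf, swap_comm]
        rw [← hτ, mul_inv_rev]
        calc τ * swap e f * K.π g * ((swap e f)⁻¹ * τ⁻¹) = τ * (swap e f * K.π g) * (swap e f)⁻¹ * τ⁻¹ := by group
          _ = τ * K.π g * τ⁻¹ := by rw [← h2]; group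
  obtain ⟨w, hw⟩ := K.exists_lift hτ'
  refine ⟨w, K.lift_eq ?_⟩
  rw [map_mul, map_mul, map_inv, hw, hc]

end cover

end Cfsg.Agent.H535.K4.Ly
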