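import Cfsg.Agent.H653.Sieve.Cols

/-!
# Certificates for the degrees 58653 and 116963 of the O'Nan group (helper535)

The columns of the primes 31, 19, 11 and the columns `T`, `F`, `u` of the elements of order 3, 5 and 15; the
tuples `(T, F, u)` satisfy the congruences `T = d (81)`, `F = d (5)`, `T + 2 u = 0 (5)`, `F + 4 u = 0 (9)`. Each
certificate is a combination of the orthogonality relations.
-/

set_option autoImplicit false

namespace Cfsg.Agent.H535.K4.ON

open Cfsg.Agent.H653.Sieve (numOK allDiv facProd Cf)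
open Cfsg.Agent.H653.Sys

/-- the order -/
def NN : ℕ := 460815505920

/-- its factorization -/
def facs : List (ℕ × ℕ) := [(31, 1), (19, 1), (11, 1), (7, 3), (5, 1), (3, 4), (2, 9)]

/-- the pairs for the prime 31 -/
def wl31 : List (ℕ × ℤ) := [(0, 0), (1, 2), (15, -1), (16, 1), (30, -2)]
/-- the pairs for the prime 19 -/
def wl19 : List (ℕ × ℤ) := [(0, 0), (1, 3), (6, -1), (13, 1), (18, -3)]
/-- the pairs for the prime 11 -/
def wl11 : List (ℕ × ℤ) := [(0, 0), (1, 1), (10, -1)]
/-- the pairs for the prime 5 -/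
def wl5 : List (ℕ × ℤ) := [(0, 0), (1, -4), (1, 1), (1, 6), (2, -8), (2, -3), (2, 2), (3, -2), (3, 3), (3, 8), (4, -6), (4, -1), (4, 4)]

theorem num31 : numOK NN 31 1 15 2 wl31 2 true = true := by decide +kernel
theorem num19 : numOK NN 19 1 6 3 wl19 3 true = true := by decide +kernel
theorem num11 : numOK NN 11 1 10 1 wl11 0 false = true := by decide +kernel
theorem num5 : numOK NN 5 36 4 1 wl5 0 false = true := by decide +kernel

/-- the values at an element of order 3 -/
def valsT (d : ℕ) : List ℤ :=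
  [((d % 81 : ℕ) : ℤ), ((d % 81 : ℕ) : ℤ) - 81].filter fun T => Nat.ble T.natAbs 56 && decide (0 ≤ d + 80 * T)

/-- the values at an element of order 5 -/
def valsF (d : ℕ) : List ℤ := (wl5.filter fun p => Nat.beq (d % 5) p.1).map Prod.snd

/-- the sums of the values at two elements of order 15 -/
def valsU (T F : ℤ) : List ℤ :=
  [-9, -8, -7, -6, -5, -4, -3, -2, -1, 0, 1, 2, 3, 4, 5, 6, 7, 8, 9].filter fun u =>
    Nat.beq ((T + 2 * u).natAbs % 5) 0 && Nat.beq ((F + 4 * u).natAbs % 9) 0

/-- the family of the elements of order 3, 5, 15 -/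
def fam3 : Fam where
  cols := [⟨[3], 3240, 0, false, 1⟩, ⟨[5], 180, 0, false, 1⟩, ⟨[15], 90, 0, false, 2⟩]
  vals d := (valsT d).flatMap fun T => (valsF d).flatMap fun F => (valsU T F).map fun u => [T, F, u]

theorem mem_fam3 {d : ℕ} {T F u : ℤ} (hT : T * T ≤ 3240) (hu : u * u ≤ 90) (hF : (d % 5, F) ∈ wl5)
    (h0 : 0 ≤ d + 80 * T) (h81 : (81 : ℤ) ∣ d + 80 * T) (h5 : (5 : ℤ) ∣ T + 2 * u) (h9 : (9 : ℤ) ∣ F + 4 * u) :
    [T, F, u] ∈ fam3.vals d := by
  have bT : -56 ≤ T ∧ T ≤ 56 := by constructor <;> nlinarith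
  have bu : -9 ≤ u ∧ u ≤ 9 := by constructor <;> nlinarith
  obtain ⟨bT1, bT2⟩ := bT
  obtain ⟨bu1, bu2⟩ := bu
  refine List.mem_flatMap.2 ⟨T, ?_, List.mem_flatMap.2 ⟨F, ?_, List.mem_map.2 ⟨u, ?_, rfl⟩⟩⟩
  · refine List.mem_filter.2 ⟨?_, ?_⟩
    · rw [List.mem_cons, List.mem_singleton]
      push_cast
      omega
    · rw [Bool.and_eq_true, decide_eq_true_eq]
      exact ⟨Nat.ble_eq_true_of_le (by omega), h0⟩
  · exact List.mem_map.2 ⟨(d % 5, F), List.mem_filter.2 ⟨hF, by simp⟩, rfl⟩
  · refine List.mem_filter.2 ⟨?_, ?_⟩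
    · simp only [List.mem_cons, List.not_mem_nil, or_false]
      omega
    · rw [Bool.and_eq_true]
      exact ⟨by rw [Nat.beq_eq]; omega, by rw [Nat.beq_eq]; omega⟩

/-- the families -/
def Fs : List Fam := [primeFam 31 wl31 62 2 true 2, primeFam 19 wl19 57 3 true 3, primeFam 11 wl11 11 0 false 1, fam3]

/-- certificate -/
def a_f58653 : ℤ := 1
/-- certificate -/
def cs_f58653 : List Cf := [⟨-165512, -14146928994, 0, [6400459270, -65045631602, 647483716, -8302746265,
    7819489129]⟩, ⟨-171141, 22463832952, 7020365486, [11254518512, -2552451961, 11341244495, -9751099501]⟩, ⟨-378610,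
    -79737236145, 0, [2133340835, -19711572336, 20124432117]⟩, ⟨13638, 134472555, 0, [1276658778, -354519285]⟩,
    ⟨264507, -4872831098, 0, [-6862272521]⟩, ⟨-99310, 4895643254, 0, []⟩]
/-- certificate -/
def a_u58653 : ℤ := 1
/-- certificate -/
def cs_u58653 : List Cf := [⟨-150030, -14865016320, 0, [12565490947, -60252171631, 658837971, 31302862138,
    -27049474317]⟩, ⟨-179828, 19069824143, 0, [-2983237670, -3826016624, 15456369854, 10868622478]⟩, ⟨-144798,
    -51741403658, 0, [3657975659, -141979529, -32050768481]⟩, ⟨23184, 137521667, 0, [-1585074410, -79905612]⟩,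
    ⟨-71242, -292610405, 0, [-7241017091]⟩, ⟨-99036, 3693661147, 0, []⟩]
/-- certificate -/
def m_u58653 : ℤ := -460815505920
/-- certificate -/
def a_f116963 : ℤ := 26
/-- certificate -/
def cs_f116963 : List Cf := [⟨900742, -108827832571, 0, [240848688029, -105264604998, 66516432127, 125084092740,
    -155194368087]⟩, ⟨-892823, -284796042335, 241626107973, [969590050439, -66320251709, 198155889160, 121877068090]⟩,
    ⟨-338280, -613393238129, 0, [134942314654, -151634866820, -87160506213]⟩, ⟨348146, 5934818231, 0, [-27789806246,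
    7111741487]⟩, ⟨-740853, -37485142330, 0, [-53011996671]⟩, ⟨-1779348, 60885586093, 0, []⟩]
/-- certificate -/
def a_u116963 : ℤ := 1
/-- certificate -/
def cs_u116963 : List Cf := [⟨-131549, -14865016320, 0, [16446993895, -71622351360, -1517218740, -8724187333,
    -18825631095]⟩, ⟨-164125, 12736845648, 0, [26506889240, 21494389, 15889702872, 29887752122]⟩, ⟨-227042,
    -83784637440, 0, [-3344857852, -20712116714, -54991165969]⟩, ⟨-1109, -29040699, 0, [-794243370, -1377741198]⟩,
    ⟨-149385, -5120172288, 0, [-49748664815]⟩, ⟨-199249, 26154375479, 0, []⟩]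
/-- certificate -/
def m_u116963 : ℤ := -460815505920

theorem cert_f58653 : certOK NN a_f58653 cs_f58653 [] Fs = true := by decide +kernel

theorem all_f58653 : allDiv NN (okD NN a_f58653 cs_f58653 [] Fs (fun d => Nat.beq d 58653)) facs 1 = true := by
  decide +kernel

theorem cert_u58653 : certOK NN a_u58653 cs_u58653 [⟨fun d => Nat.beq d 58653, m_u58653, m_u58653 * 2⟩] Fs = true := by
  decide +kernel

theorem all_u58653 : allDiv NN (okD NN a_u58653 cs_u58653 [⟨fun d => Nat.beq d 58653, m_u58653, m_u58653 * 2⟩] Fs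
    (fun _ => false)) facs 1 = true := by
  decide +kernel

theorem cert_f116963 : certOK NN a_f116963 cs_f116963 [] Fs = true := by decide +kernel

theorem all_f116963 : allDiv NN (okD NN a_f116963 cs_f116963 [] Fs (fun d => Nat.beq d 116963)) facs 1 = true := by
  decide +kernel

theorem cert_u116963 : certOK NN a_u116963 cs_u116963 [⟨fun d => Nat.beq d 116963, m_u116963, m_u116963 * 2⟩] Fs = true := by
  decide +kernel

theorem all_u116963 : allDiv NN (okD NN a_u116963 cs_u116963 [⟨fun d => Nat.beq d 116963, m_u116963, m_u116963 * 2⟩] Fs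
    (fun _ => false)) facs 1 = true := by
  decide +kernel

/-- the parity of the values at the elements of order 5 -/
theorem even_58653 : ((fam3.vals 58653).all fun l => Nat.beq ((l.getD 1 0).natAbs % 2) 0) = true := by decide +kernel

theorem even_116963 : ((fam3.vals 116963).all fun l => Nat.beq ((l.getD 1 0).natAbs % 2) 0) = true := by decide +kernel

theorem facs_prime : (facs.all fun pa => Nat.Prime pa.1) = true := by norm_num [facs]

theorem facs_prod : facProd facs = NN := by decide +kernel

end Cfsg.Agent.H535.K4.ON
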